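import Cfsg.Agent.Lib.Block.PrincipalSums
import Cfsg.Agent.Lib.Block.PrincipalColumns
import Cfsg.Agent.Lib.Block.Contribution
import Cfsg.Agent.Lib.Block.KleinBlock
import Cfsg.Agent.Lib.Block.DefectLocal
import Cfsg.Agent.Lib.AbTwo.Basic
import Cfsg.Agent.Lib.Invol.SylowTools

/-!
# Principal two-blocks with a constant difference between degree and value

If `χ(1) - χ(u) = k` for every nonprincipal character in the principal two-block of a group with
trivial odd core and `u ≠ 1`, then all nontrivial two-elements are conjugate to the two-part of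
`u`, and `k` is the order of a Sylow two-subgroup.
-/

set_option autoImplicit false
set_option linter.unusedSectionVars false
set_option linter.style.haveILetI false

namespace Cfsg.Lib.Block.ConstDiff

open Cfsg Cfsg.Lib Cfsg.Lib.Block
open scoped ComplexConjugate Classical

universe u

variable {M : Ideal AlgInt} {G : Type u} [Group G] [Fintype G]

noncomputable local instance (priority := high) fintypeSubgroupConstDiff {A : Type u}
    [Group A] [Fintype A] (H : Subgroup A) : Fintype H := Fintype.ofFinite H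

/-- The difference between degree and value at `u` is `k` on the nonprincipal part. -/
def Const (M : Ideal AlgInt) (u : G) (k : ℂ) : Prop :=
  ∀ χ : IrrCharacter G, χ ∈ principalBlock M G → (χ : G → ℂ) ≠ (fun _ => 1) →
    (χ : G → ℂ) 1 - (χ : G → ℂ) u = k

/-- The nonprincipal members of the principal block. -/
noncomputable def rest (M : Ideal AlgInt) (G : Type u) [Group G] [Fintype G] :
    Finset (IrrCharacter G) :=
  (principalBlock M G).toFinset.erase (trivChar G)

theorem mem_rest {χ : IrrCharacter G} :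
    χ ∈ rest M G ↔ χ ∈ principalBlock M G ∧ (χ : G → ℂ) ≠ (fun _ => 1) := by
  rw [rest, Finset.mem_erase, Set.mem_toFinset, and_comm, ne_eq, ne_eq, Subtype.ext_iff,
    trivChar_coe]

theorem Const.eq {u : G} {k : ℂ} (h : Const M u k) {χ : IrrCharacter G} (hχ : χ ∈ rest M G) :
    (χ : G → ℂ) u = (χ : G → ℂ) 1 - k := by
  obtain ⟨h1, h2⟩ := mem_rest.1 hχ
  rw [← h χ h1 h2]; ring

variable (hM : IsPModular 2 M)

include hM in
theorem sum_split (f : IrrCharacter G → ℂ) :
    ∑ χ ∈ (principalBlock M G).toFinset, f χ = f (trivChar G) + ∑ χ ∈ rest M G, f χ := by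
  haveI : Fact (Nat.Prime 2) := ⟨Nat.prime_two⟩
  rw [rest, Finset.add_sum_erase _ f (Set.mem_toFinset.2 (trivChar_mem_principal hM))]

include hM in
theorem col_zero {g h : G} [Fact (Nat.Prime 2)] (hne : ¬ IsConj (pPt 2 g) (pPt 2 h)) :
    1 + ∑ χ ∈ rest M G, (χ : G → ℂ) g * conj ((χ : G → ℂ) h) = 0 := by
  have h0 := sum_block_mul_conj_eq_zero hM (vInt_indVec hM (isPBlock_principal (M := M) (G := G))) hne
  rw [finsum_mem_eq_toFinset_sum, sum_split hM, trivChar_coe] at h0
  simpa using h0

theorem pPt_of_two {y : G} [Fact (Nat.Prime 2)] (hy : ∃ j : ℕ, orderOf y = 2 ^ j) : pPt 2 y = y := by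
  obtain ⟨j, hj⟩ := hy
  exact (eq_pPt (mul_one y) (Commute.one_right y) hj (by simp)).symm

theorem pReg_of_two {y : G} [Fact (Nat.Prime 2)] (hy : ∃ j : ℕ, orderOf y = 2 ^ j) : pReg 2 y = 1 := by
  obtain ⟨j, hj⟩ := hy
  exact (eq_pReg (x := y) (y := 1) (mul_one _) (Commute.one_right _) hj (by simp)).symm

theorem pPt_one [Fact (Nat.Prime 2)] : pPt 2 (1 : G) = 1 := (pPt_eq_one_iff _).2 (by simp)

include hM in
/-- A two-element takes values congruent to the degree. -/
theorem congr_degree {y : G} [Fact (Nat.Prime 2)] (hy : ∃ j : ℕ, orderOf y = 2 ^ j)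
    (χ : IrrCharacter G) :
    MemLocalIdeal M ((χ : G → ℂ) y - (charDegree (χ : G → ℂ) : ℂ)) := by
  have h := charVal_sub_pReg_mem (p := 2) hM χ.2.isCharacter y
  rwa [pReg_of_two hy, apply_one_eq_charDegree] at h

theorem sum_sq_mod_two {ι : Type*} (s : Finset ι) (d : ι → ℕ) :
    2 ∣ ∑ i ∈ s, d i * d i ↔ 2 ∣ ∑ i ∈ s, d i := by
  induction s using Finset.induction_on with
  | empty => simp
  | insert a s ha ih =>
    rw [Finset.sum_insert ha, Finset.sum_insert ha]
    have h : d a * d a % 2 = d a % 2 := by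
      rw [Nat.mul_mod]; rcases Nat.mod_two_eq_zero_or_one (d a) with h | h <;> rw [h]
    omega

include hM in
/-- The sum of the nonprincipal degrees is odd. -/
theorem sum_degree_odd (h2 : 2 ∣ Nat.card G) :
    ¬ 2 ∣ ∑ χ ∈ rest M G, charDegree (χ : G → ℂ) := by
  haveI : Fact (Nat.Prime 2) := ⟨Nat.prime_two⟩
  obtain ⟨z, hz⟩ := exists_prime_orderOf_dvd_card' (G := G) 2 h2
  have hz2 : ∃ j : ℕ, orderOf z = 2 ^ j := ⟨1, by rw [hz, pow_one]⟩
  have h0 := col_zero hM (g := z) (h := 1) fun hc => by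
    rw [pPt_of_two hz2, pPt_one, isConj_one_left] at hc
    rw [hc, orderOf_one] at hz
    omega
  intro hev
  rw [← sum_sq_mod_two] at hev
  have h3 : MemLocalIdeal M ((∑ χ ∈ rest M G, charDegree (χ : G → ℂ) * charDegree (χ : G → ℂ) +
      1 : ℕ) : ℂ) := by
    have e : ((∑ χ ∈ rest M G, charDegree (χ : G → ℂ) * charDegree (χ : G → ℂ) + 1 : ℕ) : ℂ) =
        -∑ χ ∈ rest M G, ((χ : G → ℂ) z - (charDegree (χ : G → ℂ) : ℂ)) *
          (charDegree (χ : G → ℂ) : ℂ) := by
      have h1 : ∑ χ ∈ rest M G, (χ : G → ℂ) z * conj ((χ : G → ℂ) 1) =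
          ∑ χ ∈ rest M G, (χ : G → ℂ) z * (charDegree (χ : G → ℂ) : ℂ) :=
        Finset.sum_congr rfl fun χ _ => by rw [conj_apply_one, apply_one_eq_charDegree]
      rw [h1] at h0
      simp only [sub_mul, Finset.sum_sub_distrib]
      push_cast
      linear_combination h0
    rw [e, ← Finset.sum_neg_distrib]
    refine memLocalIdeal_sum hM _ _ fun χ _ => ?_
    rw [← mul_neg]
    exact memLocalIdeal_mul_right hM (congr_degree hM hz2 χ) (neg_mem (natCast_mem _ _))
  rw [memLocalIdeal_natCast_iff hM] at h3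
  omega

include hM in
/-- No difference means trivial on the principal block. -/
theorem eq_one_of_zero (hO : oddCore G = ⊥) {u : G} (h : Const M u 0) : u = 1 := by
  haveI : Fact (Nat.Prime 2) := ⟨Nat.prime_two⟩
  obtain ⟨K, hK⟩ : ∃ K : Subgroup G,
      K = ⨅ χ : (principalBlock M G : Set (IrrCharacter G)), Char.charKer χ.1.2.isCharacter := ⟨_, rfl⟩
  haveI : K.Normal := hK ▸ Subgroup.normal_iInf_normal fun χ => Char.charKer_normal _
  have hmem : ∀ g, g ∈ K ↔ ∀ χ ∈ principalBlock M G, (χ : G → ℂ) g = (χ : G → ℂ) 1 := fun g => by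
    rw [hK, Subgroup.mem_iInf]
    exact ⟨fun h χ hχ => h ⟨χ, hχ⟩, fun h χ => h χ.1 χ.2⟩
  have hu : u ∈ K := (hmem u).2 fun χ hχ => by
    by_cases h1 : (χ : G → ℂ) = fun _ => 1
    · rw [h1]
    · exact (sub_eq_zero.1 (h χ hχ h1)).symm
  have hodd : (Nat.card K).Coprime 2 := by
    refine (Nat.prime_two.coprime_iff_not_dvd.2 fun h2 => ?_).symm
    obtain ⟨z, hz⟩ := exists_prime_orderOf_dvd_card' (G := K) 2 h2
    rw [← Subgroup.orderOf_coe] at hz
    have h0 := col_zero hM (g := (z : G)) (h := 1) fun hc => by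
      rw [pPt_of_two ⟨1, by rw [hz, pow_one]⟩, pPt_one, isConj_one_left] at hc
      rw [hc, orderOf_one] at hz
      omega
    rw [Finset.sum_congr rfl (g := fun χ : IrrCharacter G =>
      ((charDegree (χ : G → ℂ) * charDegree (χ : G → ℂ) : ℕ) : ℂ)) fun χ hχ => by
        rw [(hmem z).1 z.2 χ (mem_rest.1 hχ).1, conj_apply_one, apply_one_eq_charDegree,
          Nat.cast_mul]] at h0
    norm_cast at h0
    omega
  have := Core.le_pPrimeCore' ‹K.Normal› hodd
  rw [show pPrimeCore 2 G = ⊥ from hO, le_bot_iff] at this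
  rwa [this, Subgroup.mem_bot] at hu

include hM in
/-- Every nontrivial two-element is conjugate to the two-part of `u`. -/
theorem isConj_of_two [Fact (Nat.Prime 2)] {u : G} {k : ℂ} (h : Const M u k) (hk : k ≠ 0) {y : G}
    (hy : ∃ j : ℕ, orderOf y = 2 ^ j) (hy1 : y ≠ 1) : IsConj (pPt 2 u) y := by
  by_contra hne
  have h0 := col_zero hM (g := u) (h := y) (by rwa [pPt_of_two hy])
  have h1 := col_zero hM (g := 1) (h := y) fun hc => by
    rw [pPt_of_two hy, pPt_one, isConj_one_right] at hc
    exact hy1 hc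
  rw [Finset.sum_congr rfl (g := fun χ : IrrCharacter G => (χ : G → ℂ) 1 * conj ((χ : G → ℂ) y) -
    k * conj ((χ : G → ℂ) y)) fun χ hχ => by rw [h.eq hχ, sub_mul], Finset.sum_sub_distrib,
    ← Finset.mul_sum] at h0
  have h2 : ∑ χ ∈ rest M G, conj ((χ : G → ℂ) y) = 0 :=
    (mul_eq_zero.1 (show k * ∑ χ ∈ rest M G, conj ((χ : G → ℂ) y) = 0 by
      linear_combination h1 - h0)).resolve_left hk
  rw [← map_sum, map_eq_zero] at h2
  have hcard : 2 ∣ Nat.card G := by
    obtain ⟨j, hj⟩ := hy
    rcases j with _ | j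
    · exact absurd (orderOf_eq_one_iff.1 (by rw [hj, pow_zero])) hy1
    · exact (hj ▸ dvd_pow_self 2 j.succ_ne_zero).trans (orderOf_dvd_natCard y)
  refine sum_degree_odd hM hcard ((memLocalIdeal_natCast_iff hM _).1 ?_)
  rw [show ((∑ χ ∈ rest M G, charDegree (χ : G → ℂ) : ℕ) : ℂ) =
      ∑ χ ∈ rest M G, (-1 : ℂ) * ((χ : G → ℂ) y - (charDegree (χ : G → ℂ) : ℂ)) by
    rw [← Finset.mul_sum, Finset.sum_sub_distrib, h2]; push_cast; ring]
  exact memLocalIdeal_sum hM _ _ fun χ _ =>
    memLocalIdeal_mul_left hM (neg_mem (one_mem _)) (congr_degree hM hy χ)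

include hM in
theorem Const.conj {u : G} {k : ℂ} (h : Const M u k) (g : G) : Const M (g * u * g⁻¹) k :=
  fun χ hχ h1 => by rw [χ.2.isClassFunction u g]; exact h χ hχ h1

/-- The conjugate character. -/
noncomputable def conjIrr (χ : IrrCharacter G) : IrrCharacter G :=
  ⟨fun g => conj ((χ : G → ℂ) g), Char.isIrrCharacter_conjFn χ.2⟩

include hM in
theorem conjIrr_mem_rest {χ : IrrCharacter G} (hχ : χ ∈ rest M G) : conjIrr χ ∈ rest M G := by
  haveI : Fact (Nat.Prime 2) := ⟨Nat.prime_two⟩
  obtain ⟨h1, h2⟩ := mem_rest.1 hχ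
  refine mem_rest.2 ⟨?_, fun h => h2 ?_⟩
  · rw [mem_principal_iff_regSum hM] at h1 ⊢
    intro h0
    refine h1 ?_
    rw [← map_eq_zero (starRingEnd ℂ), map_sum]
    rw [← h0]
    refine Finset.sum_congr rfl fun g _ => ?_
    by_cases hg : IsPRegular 2 g
    · rw [pRegularPart_of_reg hg, pRegularPart_of_reg hg]; rfl
    · rw [pRegularPart_of_sing hg, pRegularPart_of_sing hg, map_zero]
  · funext g
    have := congrFun h g
    simp only [conjIrr] at this
    rw [← Complex.conj_conj ((χ : G → ℂ) g), this, map_one]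

include hM in
/-- The difference is an integer. -/
theorem exists_int_eq {u : G} {k : ℂ} (h : Const M u k) (hne : (rest M G).Nonempty) :
    ∃ m : ℤ, k = m ∧ 0 ≤ m := by
  haveI : Fact (Nat.Prime 2) := ⟨Nat.prime_two⟩
  haveI : NeZero (Nat.card G) := ⟨Nat.card_pos.ne'⟩
  obtain ⟨χ, hχ⟩ := hne
  set N := Nat.card G
  let v : IrrCharacter G → G → Char.cycField N := fun χ g =>
    Char.charVal (dvd_refl N) χ.2.isCharacter g
  set z : Char.cycField N := v χ 1 - v χ u with hz
  have hzk : (z : ℂ) = k := by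
    rw [hz, AddSubgroupClass.coe_sub]
    exact h χ (mem_rest.1 hχ).1 (mem_rest.1 hχ).2
  have hfix : ∀ σ : Char.cycField N →ₐ[ℚ] ℂ, σ z = (z : ℂ) := by
    intro σ
    obtain ⟨j, hj, hσ⟩ := Char.exists_actsAsPow σ
    rw [hzk, hz, map_sub, Char.galois_charVal _ hσ, Char.galois_charVal _ hσ, one_pow]
    have hmem := principal_comp_pow hM hj (mem_rest.1 hχ).1
    have h1 := h _ hmem (fun h' => (mem_rest.1 hχ).2 (funext fun g => by
      obtain ⟨g', rfl⟩ := (Char.powBij_of_coprime hj).2 g
      exact congrFun h' g'))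
    simp only [one_pow] at h1
    exact h1
  obtain ⟨q, hq⟩ := Char.exists_rat_of_fixed z hfix
  rw [hzk] at hq
  obtain ⟨m, rfl⟩ := Char.exists_int_of_isIntegral_rat (q := q) (by
    rw [← hq, ← h χ (mem_rest.1 hχ).1 (mem_rest.1 hχ).2]
    exact (χ.2.isCharacter.isIntegral 1).sub (χ.2.isCharacter.isIntegral u))
  refine ⟨m, by rw [hq, Rat.cast_intCast], ?_⟩
  have h2 := χ.2.isCharacter.norm_le u
  have h3 : (m : ℝ) = ((χ : G → ℂ) 1).re - ((χ : G → ℂ) u).re := by
    rw [← Complex.sub_re, h χ (mem_rest.1 hχ).1 (mem_rest.1 hχ).2, hq]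
    simp
  have h4 := Complex.re_le_norm ((χ : G → ℂ) u)
  have : (0 : ℝ) ≤ m := by linarith
  exact_mod_cast this

include hM in
/-- The difference is the order of a Sylow two-subgroup. -/
theorem eq_card_sylow [Fact (Nat.Prime 2)] {u : G} {k : ℂ} (h : Const M u k) (hk : k ≠ 0)
    (P : Sylow 2 G) (hP : (P : Subgroup G) ≤ Subgroup.centralizer ({pPt 2 u} : Set G))
    (ht : orderOf (pPt 2 u) = 2) : k = (Nat.card (P : Subgroup G) : ℂ) := by
  set t := pPt 2 u with htdef
  set H := Subgroup.centralizer ({t} : Set G) with hH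
  have hu : ∃ j : ℕ, orderOf t = 2 ^ j := ⟨1, by rw [ht, pow_one]⟩
  have hHu : ∀ x : H, Commute t (x : G) := fun x =>
    (Subgroup.mem_centralizer_singleton_iff.1 x.2).symm
  have hwH : pReg 2 u ∈ H :=
    Subgroup.mem_centralizer_singleton_iff.2 (pPt_commute_pReg u).symm.eq
  set w : H := ⟨pReg 2 u, hwH⟩ with hw
  have hwr : IsPRegular 2 w := by
    rw [IsPRegular, hw, Subgroup.orderOf_mk]; exact not_dvd_orderOf_pReg u
  have htt : t * t = 1 := by rw [← pow_two, ← ht, pow_orderOf_eq_one]
  have ht1 : t ≠ 1 := fun e => by rw [e, orderOf_one] at ht; omega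
  -- the kernel against the column
  have hker : ∀ x : H, IsPRegular 2 x → regKer (principalBlock M H) w x =
      -(k * ∑ χ ∈ rest M G, conj ((χ : G → ℂ) (t * (x : G)))) := by
    intro x hx
    have e := sum_block_mul_conj hM hu hHu le_rfl (isPBlock_principal (M := M) (G := G)) hwr hx
    rw [indSet_principal hM hu hHu le_rfl] at e
    have htw : t * ((w : H) : G) = u := by rw [hw, htdef]; exact pPt_mul_pReg u
    rw [htw, sum_split hM, trivChar_coe] at e
    have h1 := col_zero hM (g := 1) (h := t * (x : G)) fun hc => by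
      have e2 : pPt 2 (t * (x : G)) = t :=
        (eq_pPt rfl (hHu x) (hu.choose_spec) (by
          rw [Subgroup.orderOf_coe]; exact hx)).symm
      rw [e2, pPt_one, isConj_one_right] at hc
      exact ht1 hc
    rw [← e, Finset.sum_congr rfl (g := fun χ : IrrCharacter G =>
      (χ : G → ℂ) 1 * conj ((χ : G → ℂ) (t * (x : G))) - k * conj ((χ : G → ℂ) (t * (x : G))))
      fun χ hχ => by rw [h.eq hχ, sub_mul], Finset.sum_sub_distrib, ← Finset.mul_sum]
    simp only [map_one, mul_one]
    linear_combination h1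
  obtain ⟨f, hf⟩ : ∃ f : H → ℂ, f = fun x =>
      pRegularPart 2 (fun x : H => ∑ χ ∈ rest M G, conj ((χ : G → ℂ) (t * (x : G)))) x := ⟨_, rfl⟩
  -- the total of the kernel
  have htotal : ∑ x : H, pRegularPart 2 (fun x : H => regKer (principalBlock M H) w x) x =
      (Nat.card H : ℂ) := by
    have hz : ∀ ξ : IrrCharacter H, ξ ∉ (principalBlock M H).toFinset →
        ∑ x : H, pRegularPart 2 (ξ : H → ℂ) x = 0 := fun ξ hξ => by
      by_contra h0
      exact hξ (Set.mem_toFinset.2 (mem_principal_of_regSum_ne hM ξ h0))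
    calc ∑ x : H, pRegularPart 2 (fun x : H => regKer (principalBlock M H) w x) x
        = ∑ ξ ∈ (principalBlock M H).toFinset,
            (ξ : H → ℂ) w * conj (∑ x : H, pRegularPart 2 (ξ : H → ℂ) x) := by
          simp only [map_sum, Finset.mul_sum]
          rw [Finset.sum_comm]
          refine Finset.sum_congr rfl fun x _ => ?_
          by_cases hx : IsPRegular 2 x
          · rw [pRegularPart_of_reg hx, regKer]
            exact Finset.sum_congr rfl fun ξ _ => by rw [pRegularPart_of_reg hx]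
          · rw [pRegularPart_of_sing hx]
            exact (Finset.sum_eq_zero fun ξ _ => by
              rw [pRegularPart_of_sing hx, map_zero, mul_zero]).symm
      _ = ∑ ξ : IrrCharacter H, (ξ : H → ℂ) w * conj (∑ x : H, pRegularPart 2 (ξ : H → ℂ) x) :=
          Finset.sum_subset (Finset.subset_univ _) fun ξ _ hξ => by rw [hz ξ hξ, map_zero, mul_zero]
      _ = ∑ x : H, if IsConj w x then (Nat.card (Subgroup.centralizer ({w} : Set H)) : ℂ) else 0 := by
          simp only [map_sum, Finset.mul_sum]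
          rw [Finset.sum_comm]
          refine Finset.sum_congr rfl fun x _ => ?_
          by_cases hx : IsPRegular 2 x
          · rw [← Char.column_orthogonality w x]
            exact Finset.sum_congr rfl fun ξ _ => by rw [pRegularPart_of_reg hx]
          · rw [if_neg fun hc => hx ?_]
            · exact Finset.sum_eq_zero fun ξ _ => by rw [pRegularPart_of_sing hx, map_zero, mul_zero]
            · obtain ⟨c, rfl⟩ := isConj_iff.1 hc
              rw [IsPRegular, ← MulAut.conj_apply, MulEquiv.orderOf_eq]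
              exact hwr
      _ = (Nat.card H : ℂ) := by
          rw [← Finset.sum_filter, Finset.sum_const, nsmul_eq_mul, ← Nat.cast_mul,
            ← (Subgroup.centralizer ({w} : Set H)).index_mul_card]
          congr 2
          have h2 : Char.classFinset w = Finset.univ.filter fun x : H => IsConj w x := by
            ext x; simp [Char.classFinset]
          rw [← h2, Char.card_classFinset]
  have hkf : k * ∑ x : H, f x = -(Nat.card H : ℂ) := by
    rw [← htotal, Finset.mul_sum, ← Finset.sum_neg_distrib]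
    refine Finset.sum_congr rfl fun x _ => ?_
    by_cases hx : IsPRegular 2 x
    · rw [hf]; simp only [pRegularPart_of_reg hx]; rw [hker x hx, neg_neg]
    · rw [hf]; simp only [pRegularPart_of_sing hx, mul_zero, neg_zero]
  have hH0 : (Nat.card H : ℂ) ≠ 0 := Char.card_cast_ne_zero
  obtain ⟨m, hkm, hm⟩ := exists_int_eq hM h (by
    by_contra hne
    rw [Finset.not_nonempty_iff_eq_empty] at hne
    refine hH0 (neg_eq_zero.1 ?_)
    rw [← hkf, hf]
    simp only [hne, Finset.sum_empty]
    simp [pRegularPart])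
  -- integrality
  have hfint : ∀ x : H, IsIntegral ℤ (f x) := fun x => by
    rw [hf]
    by_cases hx : IsPRegular 2 x
    · simp only [pRegularPart_of_reg hx]
      exact IsIntegral.sum _ fun χ _ => by
        rw [← χ.2.isCharacter.apply_inv]; exact χ.2.isCharacter.isIntegral _
    · simp only [pRegularPart_of_sing hx]; exact isIntegral_zero
  have hodd : ∀ r : ℕ, r.Prime → r ≠ 2 → ¬ (r : ℤ) ∣ m := by
    intro r hr hr2 hdvd
    haveI : Fact r.Prime := ⟨hr⟩
    obtain ⟨N, hN⟩ := exists_isPModular hr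
    have hmem : (Nat.card H : ℂ)⁻¹ * ∑ x : H, f x ∈ locRing hN := by
      rw [show ∑ x : H, f x = ∑ χ ∈ rest M G, ∑ x : H,
          pRegularPart 2 (fun x : H => conj ((χ : G → ℂ) (t * (x : G)))) x by
        rw [Finset.sum_comm, hf]
        refine Finset.sum_congr rfl fun x _ => ?_
        by_cases hx : IsPRegular 2 x
        · simp only [pRegularPart_of_reg hx]
        · simp only [pRegularPart_of_sing hx, Finset.sum_const_zero], Finset.mul_sum]
      refine sum_mem fun χ _ => ?_
      have hcf := isClassFunction_secFn hHu χ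
      obtain ⟨a, ha⟩ : ∃ a : IrrCharacter H → ℂ, a = fun ξ : IrrCharacter H =>
          classInner (secFn t H (χ : G → ℂ)) (ξ : H → ℂ) := ⟨_, rfl⟩
      have hexp : ∀ x : H, (χ : G → ℂ) (t * (x : G)) = ∑ ξ : IrrCharacter H, a ξ * (ξ : H → ℂ) x := by
        intro x
        have e2 := congrFun (Char.eq_sum_classInner hcf) x
        simp only [Finset.sum_apply, Pi.smul_apply, smul_eq_mul] at e2
        rw [ha]
        exact e2
      have e : (Nat.card H : ℂ)⁻¹ * ∑ x : H,
          pRegularPart 2 (fun x : H => conj ((χ : G → ℂ) (t * (x : G)))) x =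
          ∑ ξ : IrrCharacter H, conj (a ξ) *
            classInner (fun x : H => if IsPRegular 2 x then (1 : ℂ) else 0) (ξ : H → ℂ) := by
        simp only [classInner, Finset.mul_sum]
        rw [Finset.sum_comm]
        refine Finset.sum_congr rfl fun x _ => ?_
        by_cases hx : IsPRegular 2 x
        · rw [pRegularPart_of_reg hx, hexp x, map_sum, Finset.mul_sum]
          refine Finset.sum_congr rfl fun ξ _ => ?_
          rw [if_pos hx, map_mul]
          ring
        · rw [pRegularPart_of_sing hx]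
          simp [if_neg hx]
      rw [e]
      refine sum_mem fun ξ _ => mul_mem (isIntegral_mem_locRing hN ?_)
        (classInner_reg_mem hN (p := 2) hr2 ξ.2.isCharacter)
      obtain ⟨c, hc, he⟩ := classInner_secFn (u := t)
        (Subgroup.mem_centralizer_singleton_iff.2 rfl) hHu χ ξ
      obtain ⟨n, hn⟩ := (χ.2.isCharacter.comp H.subtype).exists_nat_classInner ξ.2.isCharacter
      show IsIntegral ℤ (conj (a ξ))
      rw [ha]
      simp only []
      rw [he, show classInner (fun x : H => (χ : G → ℂ) x) (ξ : H → ℂ) = n from hn, map_mul,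
        Complex.conj_natCast]
      refine IsIntegral.mul ?_ (isIntegral_natCast n)
      refine IsIntegral.of_pow (n := orderOf t) (by omega) ?_
      rw [← map_pow, hc, map_one]
      exact isIntegral_one
    obtain ⟨c, hc⟩ := hdvd
    have h1 : MemLocalIdeal N ((r : ℂ) * (c : ℂ) * ((Nat.card H : ℂ)⁻¹ * ∑ x : H, f x)) :=
      memLocalIdeal_mul_right hN (memLocalIdeal_mul_right hN
        ((memLocalIdeal_natCast_iff hN r).2 dvd_rfl) (intCast_mem _ c)) hmem
    rw [show (r : ℂ) * (c : ℂ) = k by rw [hkm, hc]; push_cast; ring] at h1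
    have h2 : k * ((Nat.card H : ℂ)⁻¹ * ∑ x : H, f x) = -1 := by
      rw [mul_left_comm, hkf]; field_simp
    rw [h2] at h1
    have h3 := memLocalIdeal_mul_left hN (neg_mem (one_mem (locRing hN))) h1
    rw [neg_one_mul, neg_neg] at h3
    exact hr.not_dvd_one ((memLocalIdeal_natCast_iff hN 1).1 (by simpa using h3))
  -- parity
  have hN2 : ¬ MemLocalIdeal M (∑ x : H, f x) := by
    intro hcon
    have hfl : ∀ x : H, f x ∈ locRing hM := fun x => isIntegral_mem_locRing hM (hfint x)
    have hinv : ∀ x : H, ¬ 2 ∣ orderOf x → f x⁻¹ = f x := by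
      intro x hx
      have hx' : IsPRegular 2 x⁻¹ := by rwa [IsPRegular, orderOf_inv]
      rw [hf]
      simp only [pRegularPart_of_reg hx', pRegularPart_of_reg (show IsPRegular 2 x from hx)]
      refine Finset.sum_nbij' conjIrr conjIrr (fun χ hχ => conjIrr_mem_rest hM hχ)
        (fun χ hχ => conjIrr_mem_rest hM hχ) (fun χ _ => Subtype.ext (funext fun g => Complex.conj_conj _))
        (fun χ _ => Subtype.ext (funext fun g => Complex.conj_conj _)) fun χ _ => ?_
      show conj ((χ : G → ℂ) (t * ((x⁻¹ : H) : G))) = conj (conj ((χ : G → ℂ) (t * (x : G))))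
      congr 1
      rw [← χ.2.isCharacter.apply_inv, mul_inv_rev, inv_eq_of_mul_eq_one_right htt,
        Subgroup.coe_inv, (hHu x).inv_right.eq]
    have hzero : ∀ x : H, 2 ∣ orderOf x → f x = 0 := fun x hx => by
      rw [hf]; exact pRegularPart_of_sing fun h' => h' hx
    have hres := res_sum_reg_two hM hfl hinv hzero
    rw [(res_eq_zero_iff hM (sum_mem fun x _ => hfl x)).2 hcon, eq_comm,
      res_eq_zero_iff hM (hfl 1), hf] at hres
    simp only [pRegularPart_of_reg (show IsPRegular 2 (1 : H) by simp [IsPRegular]),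
      OneMemClass.coe_one, mul_one] at hres
    refine sum_degree_odd hM (ht ▸ orderOf_dvd_natCard t) ((memLocalIdeal_natCast_iff hM _).1 ?_)
    rw [show ((∑ χ ∈ rest M G, charDegree (χ : G → ℂ) : ℕ) : ℂ) =
        ∑ χ ∈ rest M G, conj ((χ : G → ℂ) t) +
          ∑ χ ∈ rest M G, (-1 : ℂ) * conj ((χ : G → ℂ) t - (charDegree (χ : G → ℂ) : ℂ)) by
      rw [← Finset.sum_add_distrib, Nat.cast_sum]
      refine Finset.sum_congr rfl fun χ _ => ?_
      rw [map_sub, map_natCast]
      ring]
    refine memLocalIdeal_add hM hres (memLocalIdeal_sum hM _ _ fun χ _ => ?_)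
    obtain ⟨i, hi⟩ := int_value_involution χ ht
    have h5 := congr_degree hM hu χ
    rw [hi] at h5
    rw [hi, map_sub, map_intCast, map_natCast]
    exact memLocalIdeal_mul_left hM (neg_mem (one_mem _)) h5
  -- conclusion
  have hm0 : m ≠ 0 := fun e => hk (by rw [hkm, e, Int.cast_zero])
  obtain ⟨m', rfl⟩ := Int.eq_ofNat_of_zero_le hm
  have hm' : m' ≠ 0 := by exact_mod_cast hm0
  rw [Int.cast_natCast] at hkm
  obtain ⟨j, hj⟩ : ∃ j, m' = 2 ^ j := ⟨_,
    Nat.eq_prime_pow_of_unique_prime_dvd hm' fun {r} hr hdvd => by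
      by_contra h2
      exact hodd r hr h2 (Int.natCast_dvd_natCast.2 hdvd)⟩
  obtain ⟨i, hi⟩ := IsPGroup.iff_card.1 P.2
  have hdvdH : 2 ^ i ∣ Nat.card H := hi ▸ Subgroup.card_dvd_of_le hP
  have hnot : ¬ 2 ^ (i + 1) ∣ Nat.card H := fun hd => by
    have := (pow_dvd_pow 2 le_rfl).trans (hd.trans H.card_subgroup_dvd_card)
    rw [← (P : Subgroup G).card_mul_index, hi, pow_succ] at this
    exact P.not_dvd_index (Nat.dvd_of_mul_dvd_mul_left (Nat.two_pow_pos i) this)
  have hrat : ∑ x : H, f x = -((Nat.card H : ℂ) / (2 ^ j : ℕ)) := by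
    rw [← hj, ← hkm, ← neg_div, ← hkf, mul_div_cancel_left₀ _ hk]
  obtain ⟨R, hR⟩ : ∃ R : ℤ, ∑ x : H, f x = R := by
    obtain ⟨R, hR⟩ := Char.exists_int_of_isIntegral_rat
      (q := -((Nat.card H : ℚ) / (2 ^ j : ℕ))) (by
        push_cast
        rw [show (-((Nat.card H : ℂ) / 2 ^ j)) = ∑ x : H, f x by rw [hrat]; push_cast; ring]
        exact IsIntegral.sum _ fun x _ => hfint x)
    exact ⟨R, by
      have := congrArg (fun r : ℚ => (r : ℂ)) hR
      push_cast at this
      rw [hrat]; push_cast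
      exact this⟩
  have hmul : (Nat.card H : ℤ) = 2 ^ j * (-R) := by
    have : ((Nat.card H : ℤ) : ℂ) = ((2 ^ j * (-R) : ℤ) : ℂ) := by
      have e := hkf
      rw [hR, hkm, hj] at e
      push_cast at e ⊢
      linear_combination e
    exact_mod_cast this
  have hRodd : ¬ (2 : ℤ) ∣ R := by
    rintro ⟨c, rfl⟩
    refine hN2 ?_
    rw [hR]; push_cast
    exact memLocalIdeal_mul_right hM ((memLocalIdeal_natCast_iff hM 2).2 dvd_rfl) (intCast_mem _ c)
  have hji : j = i := by
    have hd : (2 : ℤ) ^ j ∣ (Nat.card H : ℤ) := ⟨_, hmul⟩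
    have h1 : j ≤ i := by
      by_contra hlt
      exact hnot ((pow_dvd_pow 2 (show i + 1 ≤ j by omega)).trans (by exact_mod_cast hd))
    refine le_antisymm h1 ?_
    by_contra hlt
    refine hRodd (dvd_neg.1 ?_)
    have h2 : (2 : ℤ) ^ (j + 1) ∣ 2 ^ j * (-R) := hmul ▸
      (pow_dvd_pow 2 (show j + 1 ≤ i by omega)).trans (by exact_mod_cast hdvdH)
    rw [pow_succ] at h2
    exact Int.dvd_of_mul_dvd_mul_left (by positivity) h2
  rw [hkm, hj, hji, hi]

end Cfsg.Lib.Block.ConstDiff
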