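import Cfsg.Agent.Lib.Block.ConstDiff.Basic

/-!
# Bounds from a constant difference

The squares of the nonprincipal degrees of the principal block are small, and so is the sum of
the squares of the degrees in the principal block of the centralizer of an involution.
-/

set_option autoImplicit false
set_option linter.unusedSectionVars false
set_option linter.style.haveILetI false

namespace Cfsg.Lib.Block.ConstDiff

open Cfsg Cfsg.Lib Cfsg.Lib.Block
open scoped ComplexConjugate Classical

universe u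

variable {M : Ideal AlgInt} {G : Type u} [Group G] [Fintype G]

noncomputable local instance (priority := high) fintypeSubgroupConstBounds {A : Type u}
    [Group A] [Fintype A] (H : Subgroup A) : Fintype H := Fintype.ofFinite H

/-- The degree. -/
noncomputable def deg (χ : IrrCharacter G) : ℤ := (charDegree (χ : G → ℂ) : ℕ)

/-- The integer value at `t`, when there is one. -/
noncomputable def valInt (t : G) (χ : IrrCharacter G) : ℤ :=
  if h : ∃ m : ℤ, (χ : G → ℂ) t = m then h.choose else 0

theorem valInt_spec {t : G} (ht : orderOf t = 2) (χ : IrrCharacter G) :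
    (χ : G → ℂ) t = (valInt t χ : ℂ) := by
  have h := int_value_involution χ ht
  rw [valInt, dif_pos h]
  exact h.choose_spec

theorem deg_spec (χ : IrrCharacter G) : (χ : G → ℂ) 1 = (deg χ : ℂ) := by
  rw [apply_one_eq_charDegree, deg, Int.cast_natCast]

theorem deg_pos (χ : IrrCharacter G) : 0 < deg χ := by
  rw [deg]; exact_mod_cast charDegree_pos χ

theorem valInt_le {t : G} (ht : orderOf t = 2) (χ : IrrCharacter G) : valInt t χ ≤ deg χ := by
  have h := χ.2.isCharacter.norm_le t
  rw [valInt_spec ht, deg_spec] at h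
  simp only [Complex.norm_intCast, Complex.intCast_re] at h
  have h2 : ((valInt t χ : ℤ) : ℝ) ≤ (deg χ : ℝ) := le_trans (le_abs_self _) h
  exact_mod_cast h2

/-- The restriction to a subgroup whose nonidentity elements are conjugate to `t`. -/
theorem exists_mult {P : Subgroup G} {t : G} (ht : orderOf t = 2)
    (hone : ∀ v ∈ P, v ≠ 1 → IsConj t v) (χ : IrrCharacter G) :
    ∃ n : ℕ, deg χ + ((Nat.card P : ℤ) - 1) * valInt t χ = (Nat.card P : ℤ) * n := by
  obtain ⟨n, hn⟩ := (χ.2.isCharacter.comp P.subtype).exists_nat_classInner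
    (trivChar P).2.isCharacter
  refine ⟨n, ?_⟩
  have h1 : ∑ v : P, (χ : G → ℂ) v = (Nat.card P : ℂ) * n := by
    rw [← hn, classInner, trivChar_coe]
    simp only [map_one, mul_one, Function.comp_apply, Subgroup.coe_subtype]
    rw [← mul_assoc, mul_inv_cancel₀ Char.card_cast_ne_zero, one_mul]
  rw [← Finset.add_sum_erase _ _ (Finset.mem_univ (1 : P)),
    Finset.sum_congr rfl (g := fun _ => (valInt t χ : ℂ)) fun v hv => ?_, Finset.sum_const,
    Finset.card_erase_of_mem (Finset.mem_univ _), Finset.card_univ, ← Nat.card_eq_fintype_card,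
    nsmul_eq_mul, OneMemClass.coe_one, deg_spec, Nat.cast_sub Nat.card_pos, Nat.cast_one] at h1
  · exact_mod_cast h1
  · obtain ⟨c, hc⟩ := isConj_iff.1 (hone v v.2 fun e =>
      (Finset.mem_erase.1 hv).1 (Subtype.ext e))
    rw [← hc, χ.2.isClassFunction t c, valInt_spec ht]

/-- Values at an involution with all nontrivial Sylow elements conjugate to it. -/
theorem value_facts {P : Subgroup G} {t : G} (ht : orderOf t = 2)
    (hone : ∀ v ∈ P, v ≠ 1 → IsConj t v) (χ : IrrCharacter G) :
    (Nat.card P : ℤ) ∣ deg χ - valInt t χ ∧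
      -deg χ ≤ ((Nat.card P : ℤ) - 1) * valInt t χ := by
  obtain ⟨n, hn⟩ := exists_mult ht hone χ
  refine ⟨⟨(n : ℤ) - valInt t χ, by linear_combination hn⟩, ?_⟩
  have : (0 : ℤ) ≤ (Nat.card P : ℤ) * n := by positivity
  omega

variable (hM : IsPModular 2 M)

include hM in
theorem sum_deg_value {t : G} (ht : orderOf t = 2) :
    ∑ χ ∈ rest M G, deg χ * valInt t χ = -1 := by
  haveI : Fact (Nat.Prime 2) := ⟨Nat.prime_two⟩
  have h := col_zero hM (g := t) (h := 1) fun hc => by
    rw [pPt_of_two ⟨1, by rw [ht, pow_one]⟩, pPt_one, isConj_one_left] at hc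
    rw [hc, orderOf_one] at ht
    omega
  rw [Finset.sum_congr rfl (g := fun χ : IrrCharacter G => ((deg χ * valInt t χ : ℤ) : ℂ))
    fun χ _ => by rw [conj_apply_one, valInt_spec ht, deg_spec, Int.cast_mul, mul_comm]] at h
  have h2 : (1 : ℤ) + ∑ χ ∈ rest M G, deg χ * valInt t χ = 0 := by exact_mod_cast h
  omega

include hM in
/-- The squares of the nonprincipal degrees are small. -/
theorem sum_deg_sq_le [Fact (Nat.Prime 2)] {u : G} {q : ℕ} (hq : 0 < q) (h : Const M u (q : ℂ))
    (hu : pPt 2 u ≠ 1) :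
    ∑ χ ∈ rest M G, deg χ * deg χ + q + 1 ≤ ((rest M G).card : ℤ) * (q * q) := by
  have h0 := col_zero hM (g := u) (h := 1) fun hc => by
    rw [pPt_one, isConj_one_left] at hc
    exact hu hc
  rw [Finset.sum_congr rfl (g := fun χ : IrrCharacter G =>
    (((deg χ * deg χ - (q : ℤ) * deg χ) : ℤ) : ℂ)) fun χ hχ => by
      rw [h.eq hχ, conj_apply_one, deg_spec]; push_cast; ring] at h0
  have h1 : (1 : ℤ) + ∑ χ ∈ rest M G, (deg χ * deg χ - (q : ℤ) * deg χ) = 0 := by exact_mod_cast h0
  rw [Finset.sum_sub_distrib, ← Finset.mul_sum] at h1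
  set X := ∑ χ ∈ rest M G, deg χ with hX
  set n := ((rest M G).card : ℤ)
  have hcs : X ^ 2 ≤ n * ∑ χ ∈ rest M G, deg χ ^ 2 := sq_sum_le_card_mul_sum_sq
  have hsq : ∑ χ ∈ rest M G, deg χ ^ 2 = ∑ χ ∈ rest M G, deg χ * deg χ :=
    Finset.sum_congr rfl fun χ _ => sq _
  rw [hsq] at hcs
  have hXpos : 0 < X := by
    rcases (rest M G).eq_empty_or_nonempty with e | e
    · simp [hX, e] at h1
    · exact Finset.sum_pos (fun χ _ => deg_pos χ) e
  have hq' : (0 : ℤ) < q := by exact_mod_cast hq
  have hlt : X < n * q := by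
    by_contra hge
    rw [not_lt] at hge
    have hn : 1 ≤ n := by
      rcases (rest M G).eq_empty_or_nonempty with e | e
      · simp [hX, e] at hXpos
      · show (1 : ℤ) ≤ ((rest M G).card : ℤ)
        exact_mod_cast e.card_pos
    have e1 : ∑ χ ∈ rest M G, deg χ * deg χ = q * X - 1 := by linarith
    rw [e1] at hcs
    have e2 := mul_le_mul_of_nonneg_right hge hXpos.le
    nlinarith
  nlinarith

include hM in
/-- The column of `t` in the principal block. -/
theorem degSq_centralizer {t : G} (ht : orderOf t = 2) :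
    ((∑ᶠ ψ ∈ principalBlock M (Subgroup.centralizer ({t} : Set G)),
      charDegree (ψ : Subgroup.centralizer ({t} : Set G) → ℂ) ^ 2 : ℕ) : ℤ) =
      1 + ∑ χ ∈ rest M G, valInt t χ * valInt t χ := by
  haveI : Fact (Nat.Prime 2) := ⟨Nat.prime_two⟩
  have hu : ∃ j : ℕ, orderOf t = 2 ^ j := ⟨1, by rw [ht, pow_one]⟩
  have h := principal_column hM hu hu
  rw [if_pos (IsConj.refl t), finsum_mem_eq_toFinset_sum, sum_split hM, trivChar_coe,
    Finset.sum_congr rfl (g := fun χ : IrrCharacter G => ((valInt t χ * valInt t χ : ℤ) : ℂ))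
      fun χ _ => by rw [valInt_spec ht, map_intCast, Int.cast_mul],
    principalDegSq, finsum_mem_eq_toFinset_sum] at h
  rw [finsum_mem_eq_toFinset_sum]
  apply Int.cast_injective (α := ℂ)
  push_cast at h ⊢
  rw [← h]
  simp

include hM in
/-- The bound on the principal block of the centralizer. -/
theorem degSq_le {P : Subgroup G} {t : G} (ht : orderOf t = 2)
    (hone : ∀ v ∈ P, v ≠ 1 → IsConj t v) (hP : 2 ≤ Nat.card P) :
    ((Nat.card P : ℤ) - 1) * ((Nat.card P : ℤ) - 1) *
      ((∑ᶠ ψ ∈ principalBlock M (Subgroup.centralizer ({t} : Set G)),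
        charDegree (ψ : Subgroup.centralizer ({t} : Set G) → ℂ) ^ 2 : ℕ) : ℤ) ≤
      (Nat.card P : ℤ) * ∑ χ ∈ rest M G, deg χ * deg χ := by
  rw [degSq_centralizer hM ht]
  obtain ⟨r, hr⟩ : ∃ r : ℤ, r = (Nat.card P : ℤ) - 1 := ⟨_, rfl⟩
  have hr1 : 1 ≤ r := by omega
  rw [← hr, show (Nat.card P : ℤ) = r + 1 by omega]
  have hpt : ∀ χ ∈ rest M G, r * r * (valInt t χ * valInt t χ) ≤
      r * r * (deg χ * valInt t χ) + (r + 1) * (deg χ * deg χ) := by
    intro χ _
    have h1 := valInt_le ht χ
    have h2 := (value_facts ht hone χ).2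
    rw [← hr] at h2
    have hd := deg_pos χ
    rcases le_or_gt 0 (valInt t χ) with hf | hf
    · have := mul_le_mul_of_nonneg_left (mul_le_mul_of_nonneg_right h1 hf) (mul_self_nonneg r)
      nlinarith
    · obtain ⟨g, hg⟩ : ∃ g : ℤ, valInt t χ = -g := ⟨-valInt t χ, by ring⟩
      rw [hg] at hf h2 ⊢
      have h3 : r * g ≤ deg χ := by linarith
      have h4 : 0 ≤ r * g := by nlinarith
      have h5 := mul_le_mul h3 h3 h4 hd.le
      have h6 := mul_le_mul_of_nonneg_left h3 (by positivity : (0 : ℤ) ≤ r * deg χ)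
      nlinarith
  have hs := Finset.sum_le_sum hpt
  rw [Finset.sum_add_distrib, ← Finset.mul_sum, ← Finset.mul_sum, ← Finset.mul_sum,
    sum_deg_value hM ht] at hs
  nlinarith

end Cfsg.Lib.Block.ConstDiff
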