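import Cfsg.Agent.Lib.Block.ConstDiff.Bounds
import Cfsg.Agent.Lib.Block.KleinValues
import Cfsg.Agent.Lib.TwoDim.DegreeSets

/-!
# Four-group Sylow subgroups and small degrees

Degrees in the principal block with four characters, and degree three for `PSL₂(q)`.
-/

set_option autoImplicit false
set_option linter.unusedSectionVars false
set_option linter.style.haveILetI false

namespace Cfsg.Lib.Block.ConstDiff

open Cfsg Cfsg.Lib Cfsg.Lib.Block
open scoped ComplexConjugate Classical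

universe u

variable {M : Ideal AlgInt} {G : Type u} [Group G] [Fintype G] (hM : IsPModular 2 M)

include hM in
theorem klein_facts {P : Sylow 2 G} (hP : KleinCond P) {z : G} (hz : orderOf z = 2)
    (hdeg : ∀ χ ∈ rest M G, 2 ≤ deg χ) :
    43 ≤ ∑ χ ∈ rest M G, deg χ * deg χ ∧
      (∑ χ ∈ rest M G, deg χ * deg χ ≤ 43 → ∃ χ ∈ rest M G, deg χ = 3 ∧ valInt z χ = -1) := by
  haveI : Fact (Nat.Prime 2) := ⟨Nat.prime_two⟩
  obtain ⟨hsign, hfour⟩ := klein_signs hM hP hz
  have hone : ∀ v ∈ (P : Subgroup G), v ≠ 1 → IsConj z v := fun v hv hv1 =>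
    hP.fuse z v hz (orderOf_eq_two_of_sq (hP.sq v hv) hv1)
  have hval : ∀ χ ∈ rest M G, (valInt z χ = 1 ∧ 5 ≤ deg χ) ∨ (valInt z χ = -1 ∧ 3 ≤ deg χ) := by
    intro χ hχ
    have h1 := hdeg χ hχ
    obtain ⟨h2, -⟩ := value_facts hz hone χ
    rw [show Nat.card (P : Subgroup G) = 4 from hP.card] at h2
    obtain ⟨c, hc⟩ := h2
    push_cast at hc
    rcases hsign χ (mem_rest.1 hχ).1 with h | h
    · have : valInt z χ = 1 := by
        rw [valInt_spec hz] at h
        exact_mod_cast h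
      exact Or.inl ⟨this, by omega⟩
    · have : valInt z χ = -1 := by
        rw [valInt_spec hz] at h
        exact_mod_cast h
      exact Or.inr ⟨this, by omega⟩
  have hsum := sum_deg_value hM (G := G) hz
  have hcard : (rest M G).card = 3 := by
    rw [rest, Finset.card_erase_of_mem (Set.mem_toFinset.2 (trivChar_mem_principal hM)),
      Set.toFinset_card, ← Nat.card_eq_fintype_card, hfour]
  obtain ⟨a, b, c, hab, hac, hbc, hrest⟩ := Finset.card_eq_three.1 hcard
  rw [hrest] at hsum hval ⊢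
  rw [Finset.sum_insert (by simp [hab, hac]), Finset.sum_pair hbc] at hsum ⊢
  have ha := hval a (by simp)
  have hb := hval b (by simp)
  have hc := hval c (by simp)
  constructor
  · rcases ha with ⟨ea, da⟩ | ⟨ea, da⟩ <;> rcases hb with ⟨eb, db⟩ | ⟨eb, db⟩ <;>
      rcases hc with ⟨ec, dc⟩ | ⟨ec, dc⟩ <;> rw [ea, eb, ec] at hsum <;> nlinarith
  · intro hle
    rcases ha with ⟨ea, da⟩ | ⟨ea, da⟩ <;> rcases hb with ⟨eb, db⟩ | ⟨eb, db⟩ <;>
      rcases hc with ⟨ec, dc⟩ | ⟨ec, dc⟩ <;> rw [ea, eb, ec] at hsum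
    all_goals
      first
        | exact ⟨a, by simp, by nlinarith, ea⟩
        | exact ⟨b, by simp, by nlinarith, eb⟩
        | exact ⟨c, by simp, by nlinarith, ec⟩
        | (exfalso; linarith)

include hM in
theorem klein_degSq {P : Sylow 2 G} (hP : KleinCond P) {z : G} (hz : orderOf z = 2)
    (hdeg : ∀ χ ∈ rest M G, 2 ≤ deg χ) :
    44 ≤ ∑ᶠ χ ∈ principalBlock M G, charDegree (χ : G → ℂ) ^ 2 := by
  haveI : Fact (Nat.Prime 2) := ⟨Nat.prime_two⟩
  obtain ⟨h, -⟩ := klein_facts hM hP hz hdeg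
  have h1 : charDegree ((trivChar G : IrrCharacter G) : G → ℂ) = 1 :=
    charDegree_eq_of_apply_one (by rw [trivChar_coe, Nat.cast_one])
  rw [finsum_mem_eq_toFinset_sum, ← Finset.add_sum_erase _ _
    (Set.mem_toFinset.2 (trivChar_mem_principal (G := G) hM)), h1]
  have h2 : ((43 : ℕ) : ℤ) ≤ ((∑ χ ∈ rest M G, charDegree (χ : G → ℂ) ^ 2 : ℕ) : ℤ) := by
    push_cast
    refine le_trans h (le_of_eq (Finset.sum_congr rfl fun χ _ => ?_))
    rw [deg]; ring
  have h3 : (43 : ℕ) ≤ ∑ χ ∈ rest M G, charDegree (χ : G → ℂ) ^ 2 := by exact_mod_cast h2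
  show 44 ≤ 1 ^ 2 + ∑ χ ∈ rest M G, charDegree (χ : G → ℂ) ^ 2
  omega

/-- Degree three forces `q = 5`. -/
theorem card_five_of_degree_three {F : Type} [Field F] [Fintype F] {X : Type u} [Group X] [Finite X]
    (e : X ≃* Matrix.ProjectiveSpecialLinearGroup (Fin 2) F)
    (hq : Fintype.card F % 8 = 3 ∨ Fintype.card F % 8 = 5) (h5 : 5 ≤ Fintype.card F)
    {θ : X → ℂ} (hθ : IsIrrCharacter X θ) (h3 : θ 1 = 3) : Fintype.card F = 5 := by
  have hη : IsIrrCharacter (Matrix.SpecialLinearGroup (Fin 2) F)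
      ((fun x => θ (e.symm x)) ∘ QuotientGroup.mk' (Subgroup.center (Matrix.SpecialLinearGroup (Fin 2) F))) :=
    Char.isIrrCharacter_inflate _ (Char.isIrrCharacter_comp_equiv e.symm hθ)
  have h1 : ((fun x => θ (e.symm x)) ∘
      QuotientGroup.mk' (Subgroup.center (Matrix.SpecialLinearGroup (Fin 2) F))) 1 = 3 := by
    rw [Function.comp_apply, map_one]
    show θ (e.symm 1) = 3
    rw [map_one, h3]
  rcases TwoDim.sl_degree_cases hη with h | h | h | h | ⟨-, h⟩ | ⟨-, h⟩
  · rw [h, TwoDim.oneR_eq] at h1; norm_num at h1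
  · rw [h, TwoDim.stR_one] at h1
    have : Fintype.card F = 3 := by exact_mod_cast h1
    omega
  all_goals
    rw [h1] at h
    have := (Nat.cast_injective (R := ℂ)) (a₁ := 3) (by exact_mod_cast h)
    omega

end Cfsg.Lib.Block.ConstDiff
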