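import Cfsg.Agent.Lib.Block.PrimeInertia.Structure
import Cfsg.Agent.Lib.WalterBig.Torus
import Cfsg.Agent.Lib.Linear.PSLSmall
import Cfsg.Agent.Lib.Invol.SylowTools
import Cfsg.Agent.Lib.AbTwo.Basic
import Cfsg.Agent.S0252
import Cfsg.Agent.S0253
import Mathlib.FieldTheory.Finite.GaloisField

/-!
# Groups with one class of nontrivial two-elements

A simple normal subgroup containing the Sylow two-subgroup, and the triviality of the centralizer
of that subgroup when it is a Sylow subgroup of `PSL₂(2^a)`.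
-/

set_option autoImplicit false
set_option linter.unusedSectionVars false
set_option linter.style.haveILetI false

namespace Cfsg.Lib.Block.ConstDiff

open Cfsg Cfsg.Lib Subgroup

universe u

variable {G : Type u} [Group G] [Finite G] (P : Sylow 2 G)

theorem isConj_mem {L : Subgroup G} [hL : L.Normal] {a b : G} (h : IsConj a b) (ha : a ∈ L) :
    b ∈ L := by
  obtain ⟨c, rfl⟩ := isConj_iff.1 h
  exact hL.conj_mem a ha c

/-- A simple normal subgroup with trivial centralizer containing the Sylow subgroup. -/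
theorem exists_simple_top (hab : IsMulCommutative (P : Subgroup G)) (hO : oddCore G = ⊥)
    (hns : ¬ Group.IsSolvable G) {t : G}
    (hfuse : ∀ y : G, (∃ j : ℕ, orderOf y = 2 ^ j) → y ≠ 1 → IsConj t y) :
    ∃ L : Subgroup G, L.Normal ∧ IsSimpleGroup L ∧ ¬ IsMulCommutative L ∧ (P : Subgroup G) ≤ L ∧
      centralizer (L : Set G) = ⊥ := by
  haveI : Fact (Nat.Prime 2) := ⟨Nat.prime_two⟩
  obtain ⟨N, hNn, hN1, hnc, hmin⟩ := Block.PrimeInertia.exists_nonabelian_minimal P hab hO hns
  haveI := hNn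
  obtain ⟨S, hS⟩ := Group.MinFactor.exists_factor hN1
  have hinv : ∀ {H : Subgroup G}, ¬ IsMulCommutative H → (∀ R : Subgroup H, R.Normal → R = ⊥ ∨ R = ⊤) →
      ∃ a ∈ H, orderOf a = 2 := by
    intro H hH hsimp
    by_contra hno
    push Not at hno
    have hodd : Odd (Nat.card H) := Nat.not_even_iff_odd.1 fun he => by
      obtain ⟨z, hz⟩ := exists_prime_orderOf_dvd_card' (G := H) 2 (even_iff_two_dvd.1 he)
      exact hno _ z.2 (by rw [Subgroup.orderOf_coe, hz])
    haveI : Nontrivial H := by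
      by_contra hcon
      rw [not_nontrivial_iff_subsingleton] at hcon
      exact hH ⟨⟨fun a b => Subsingleton.elim _ _⟩⟩
    haveI : IsSimpleGroup H := ⟨hsimp⟩
    exact hH ⟨⟨IsSimpleGroup.comm_iff_isSolvable.2 (Cfsg.Agent.S0205.result hodd)⟩⟩
  have hsimp : ∀ {S : Subgroup G}, Group.MinFactor.Factor N S →
      (∀ R : Subgroup S, R.Normal → R = ⊥ ∨ R = ⊤) ∧ ¬ IsMulCommutative S := by
    intro S hS
    refine ⟨fun R hR => ?_, fun hc => hS.ne ?_⟩
    · refine (em (R = ⊥)).imp id fun hRb => ?_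
      have hle : ∀ n ∈ N, ∀ r ∈ R.map S.subtype, n * r * n⁻¹ ∈ R.map S.subtype := by
        intro n hn
        have hn' : n ∈ S ⊔ (N ⊓ centralizer (S : Set G)) := by rwa [hS.sup_centralizer hmin]
        refine fun r => (mem_normalizer_iff.1 ?_ r).1
        refine (show S ⊔ (N ⊓ centralizer (S : Set G)) ≤
          normalizer ((R.map S.subtype : Subgroup G) : Set G) from sup_le ?_ ?_) hn'
        · intro s hs
          refine mem_normalizer_fintype ?_
          rintro _ ⟨a, ha, rfl⟩
          exact ⟨⟨s, hs⟩ * a * ⟨s, hs⟩⁻¹, hR.conj_mem a ha _, rfl⟩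
        · intro c hc
          refine mem_normalizer_fintype ?_
          rintro _ ⟨a, ha, rfl⟩
          refine ⟨a, ha, ?_⟩
          show (a : G) = c * a * c⁻¹
          rw [← mem_centralizer_iff.1 hc.2 a a.2, mul_inv_cancel_right]
      have := hS.min (R.map S.subtype) (map_subtype_le R) hle
        (by rwa [Ne, map_eq_bot_iff_of_injective _ S.subtype_injective])
      refine map_injective S.subtype_injective ?_
      rw [this, ← MonoidHom.range_eq_map, range_subtype]
    · have h := hS.inf_centralizer hmin hnc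
      rwa [inf_eq_left.2 fun a ha => mem_centralizer_iff.2 fun b hb =>
        congrArg Subtype.val (hc.is_comm.comm (⟨b, hb⟩ : S) ⟨a, ha⟩)] at h
  have hpow : ∀ {a : G}, orderOf a = 2 → ∃ j : ℕ, orderOf a = 2 ^ j := fun h => ⟨1, by rw [h, pow_one]⟩
  have hne1 : ∀ {a : G}, orderOf a = 2 → a ≠ 1 := fun h e => by rw [e, orderOf_one] at h; omega
  obtain ⟨a, haS, ha⟩ := hinv (hsimp hS).2 (hsimp hS).1
  have hall : ∀ g : G, S.map (MulAut.conj g).toMonoidHom = S := by
    intro g
    by_contra hg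
    have hS' := hS.conj g
    obtain ⟨b, hbS, hb⟩ := hinv (hsimp hS').2 (hsimp hS').1
    have hab' : Commute a b := hS.commute hS' (Ne.symm hg) haS hbS
    have hb1 := hne1 hb
    have hbC : ∀ s ∈ S, Commute b s := fun s hs => (hS.commute hS' (Ne.symm hg) hs hbS).symm
    have hab1 : orderOf (a * b) = 2 := by
      refine orderOf_eq_prime (by
        rw [hab'.mul_pow, ← ha, pow_orderOf_eq_one, ha, ← hb, pow_orderOf_eq_one, mul_one]) ?_
      intro e
      have hbS2 : b ∈ S := by
        rw [mul_eq_one_iff_inv_eq] at e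
        exact e ▸ inv_mem haS
      exact hb1 (mem_bot.1 ((hS.inf_centralizer hmin hnc) ▸
        mem_inf.2 ⟨hbS2, mem_centralizer_iff.2 fun s hs => ((hbC s hs).eq).symm⟩))
    obtain ⟨c, hc⟩ := isConj_iff.1 ((hfuse a (hpow ha) (hne1 ha)).symm.trans
      (hfuse _ (hpow hab1) (hne1 hab1)))
    have hmem : a * b ∈ S.map (MulAut.conj c).toMonoidHom := ⟨a, haS, hc⟩
    by_cases hc' : S.map (MulAut.conj c).toMonoidHom = S
    · rw [hc'] at hmem
      have hbS2 : b ∈ S := (S.mul_mem_cancel_left haS).1 hmem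
      exact hb1 (mem_bot.1 ((hS.inf_centralizer hmin hnc) ▸
        mem_inf.2 ⟨hbS2, mem_centralizer_iff.2 fun s hs => ((hbC s hs).eq).symm⟩))
    · have haC : a ∈ S ⊓ centralizer (S : Set G) := mem_inf.2 ⟨haS, mem_centralizer_iff.2 fun s hs => by
        have h1 := hS.commute (hS.conj c) (Ne.symm hc') hs hmem
        have h2 := h1.mul_right (hbC s hs).symm.inv_right
        rw [mul_inv_cancel_right] at h2
        exact h2.eq⟩
      rw [hS.inf_centralizer hmin hnc, mem_bot] at haC
      exact hne1 ha haC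
  have he : S = N := by
    refine le_antisymm hS.le ?_
    conv_lhs => rw [← hS.iSup_conj hmin]
    exact iSup_le fun g => (hall g).le
  obtain ⟨h1, h2⟩ := hsimp hS
  subst he
  haveI : Nontrivial S := (nontrivial_iff_ne_bot S).2 hN1
  have hPS : ∀ y : G, (∃ j : ℕ, orderOf y = 2 ^ j) → y ∈ S := fun y hy => by
    rcases eq_or_ne y 1 with rfl | hy1
    · exact one_mem S
    · exact isConj_mem ((hfuse a (hpow ha) (hne1 ha)).symm.trans (hfuse y hy hy1)) haS
  refine ⟨S, hNn, ⟨h1⟩, h2, fun v hv => hPS v ?_, ?_⟩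
  · obtain ⟨j, hj⟩ := IsPGroup.iff_orderOf.1 P.2 ⟨v, hv⟩
    exact ⟨j, by rw [← hj, Subgroup.orderOf_mk]⟩
  · have hco : (Nat.card (centralizer (S : Set G))).Coprime 2 := by
      refine (Nat.prime_two.coprime_iff_not_dvd.2 fun h => ?_).symm
      obtain ⟨z, hz⟩ := exists_prime_orderOf_dvd_card' (G := centralizer (S : Set G)) 2 h
      rw [← Subgroup.orderOf_coe] at hz
      exact hne1 hz (mem_bot.1 ((Group.MinFactor.inf_centralizer hmin hnc) ▸
        mem_inf.2 ⟨hPS _ (hpow hz), z.2⟩))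
    have := Core.le_pPrimeCore (p := 2) (N := centralizer (S : Set G)) hco
    rwa [show pPrimeCore 2 G = ⊥ from hO, le_bot_iff] at this

variable {L : Subgroup G} [hLn : L.Normal] (hPL : (P : Subgroup G) ≤ L)

include hPL in
theorem sylow_le_of_normal (Q : Sylow 2 G) : (Q : Subgroup G) ≤ L := by
  obtain ⟨g, rfl⟩ := MulAction.exists_smul_eq G P Q
  rintro _ ⟨v, hv, rfl⟩
  exact hLn.conj_mem v (hPL hv) g

/-- The structure of the Sylow subgroup of `PSL₂(2^a)` needed below. -/
theorem psl_even_sylow {F : Type} [Field F] [Fintype F] {a : ℕ} (hF : Fintype.card F = 2 ^ a)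
    (ha : 2 ≤ a) {X : Type u} [Group X] [Finite X]
    (e : X ≃* Matrix.ProjectiveSpecialLinearGroup (Fin 2) F) (S : Sylow 2 X) :
    Nat.card (S : Subgroup X) = 2 ^ a ∧
      (∀ y ∈ (S : Subgroup X), y ≠ 1 → centralizer ({y} : Set X) = (S : Subgroup X)) ∧
      Nat.card (Sylow 2 X) = 2 ^ a + 1 := by
  classical
  haveI : Fact (Nat.Prime 2) := ⟨Nat.prime_two⟩
  haveI : CharP F 2 := charP_of_card_eq_prime_pow hF
  let g : X ≃* Matrix.SpecialLinearGroup (Fin 2) F := e.trans Cfsg.Lib.Spec.pslEquivOfCharTwo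
  obtain ⟨hsq, hcard, ⟨x, hx, htr⟩, -⟩ := WalterBig.psl_two_torus hF e S
  have hScomm : ∀ y ∈ (S : Subgroup X), ∀ z ∈ (S : Subgroup X), z * y = y * z := fun y hy z hz => by
    have h : ∀ w ∈ (S : Subgroup X), w⁻¹ = w := fun w hw => inv_eq_of_mul_eq_one_right (hsq w hw)
    calc z * y = (z * y)⁻¹ := (h _ (mul_mem hz hy)).symm
      _ = y⁻¹ * z⁻¹ := mul_inv_rev _ _
      _ = y * z := by rw [h y hy, h z hz]
  have hcent : ∀ y ∈ (S : Subgroup X), y ≠ 1 → centralizer ({y} : Set X) = (S : Subgroup X) := by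
    intro y hy hy1
    refine S.is_maximal' (fun z => ⟨1, Subtype.ext ?_⟩)
      fun z hz => mem_centralizer_singleton_iff.2 (hScomm y hy z hz)
    rw [SubgroupClass.coe_pow, Subgroup.coe_one, pow_one]
    apply g.injective
    rw [map_pow, map_one]
    exact Cfsg.Lib.Invol.AC.sq_eq_one_of_commute (M := g y)
      (by rw [pow_two, ← map_mul, hsq y hy, map_one])
      (fun e => hy1 (g.injective (e.trans (map_one g).symm)))
      (by rw [← map_mul, ← map_mul, mem_centralizer_iff.1 z.2 y rfl])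
  refine ⟨hcard, hcent, ?_⟩
  set N := normalizer ((S : Subgroup X) : Set X) with hN
  obtain ⟨r, hr, hr1⟩ := (bot_or_exists_ne_one (S : Subgroup X)).resolve_left fun h => by
    rw [h, card_bot] at hcard
    have := Nat.one_lt_two_pow (n := a) (by omega)
    omega
  let f : N ⧸ (S : Subgroup X).subgroupOf N → {v : (S : Subgroup X) // v ≠ 1} := fun q =>
    ⟨⟨(q.out : X) * r * (q.out : X)⁻¹, (mem_normalizer_iff.1 q.out.2 r).1 hr⟩, fun h =>
      hr1 (conj_eq_one_iff.1 (congrArg Subtype.val h))⟩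
  have hf : Function.Bijective f := by
    constructor
    · intro q q' h
      have h1 : (q.out : X) * r * (q.out : X)⁻¹ = (q'.out : X) * r * (q'.out : X)⁻¹ :=
        congrArg (fun v : {v : (S : Subgroup X) // v ≠ 1} => ((v.1 : (S : Subgroup X)) : X)) h
      rw [← q.out_eq, ← q'.out_eq]
      refine QuotientGroup.eq.2 (mem_subgroupOf.2 ?_)
      refine (hcent r hr hr1).le (mem_centralizer_singleton_iff.2 ?_)
      simp only [Subgroup.coe_mul, Subgroup.coe_inv]
      calc (q.out : X)⁻¹ * (q'.out : X) * r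
          = (q.out : X)⁻¹ * ((q'.out : X) * r * (q'.out : X)⁻¹) * (q'.out : X) := by group
        _ = r * ((q.out : X)⁻¹ * (q'.out : X)) := by rw [← h1]; group
    · rintro ⟨⟨w, hw⟩, hw1⟩
      obtain ⟨i, hi⟩ := htr r hr hr1 w hw fun e => hw1 (Subtype.ext e)
      refine ⟨QuotientGroup.mk (⟨x ^ i, pow_mem hx i⟩ : N), Subtype.ext (Subtype.ext ?_)⟩
      show _ * r * _⁻¹ = w
      obtain ⟨⟨s, hs⟩, hsout⟩ := QuotientGroup.mk_out_eq_mul ((S : Subgroup X).subgroupOf N)
        (⟨x ^ i, pow_mem hx i⟩ : N)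
      rw [hsout]
      simp only [Subgroup.coe_mul]
      have hsS : (s : X) ∈ (S : Subgroup X) := mem_subgroupOf.1 hs
      rw [show x ^ i * (s : X) * r * (x ^ i * (s : X))⁻¹ = x ^ i * ((s : X) * r * (s : X)⁻¹) * (x ^ i)⁻¹
        by group, hScomm r hr s hsS, mul_inv_cancel_right, hi]
  have hNS : ((S : Subgroup X).subgroupOf N).index = 2 ^ a - 1 := by
    rw [index_eq_card, Nat.card_congr (Equiv.ofBijective f hf)]
    haveI := Fintype.ofFinite (S : Subgroup X)
    rw [Nat.card_eq_fintype_card, Fintype.card_subtype_compl, Fintype.card_subtype_eq,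
      ← Nat.card_eq_fintype_card, hcard]
  have hNcard : Nat.card N = 2 ^ a * (2 ^ a - 1) := by
    rw [← ((S : Subgroup X).subgroupOf N).card_mul_index, hNS,
      Nat.card_congr (subgroupOfEquivOfLe (le_normalizer : (S : Subgroup X) ≤ N)).toEquiv, hcard]
  have hX := Cfsg.Lib.Linear.Two.card_PSL_two (F := F)
  rw [← Nat.card_congr e.toEquiv, hF] at hX
  have hev : 2 ∣ 2 ^ a := dvd_pow_self 2 (by omega)
  have h1 : 1 ≤ 2 ^ a := Nat.one_le_two_pow
  rw [show Nat.gcd 2 (2 ^ a - 1) = 1 from Nat.coprime_two_left.2 (Nat.odd_iff.2 (by omega)),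
    one_mul] at hX
  rw [S.card_eq_index_normalizer]
  show N.index = _
  have hmul := N.card_mul_index
  rw [hNcard, hX, show (2 ^ a) ^ 2 - 1 = (2 ^ a - 1) * (2 ^ a + 1) by
    rw [mul_comm, ← Nat.sq_sub_sq, one_pow], ← mul_assoc] at hmul
  have : 4 ≤ 2 ^ a := (show 4 = 2 ^ 2 by norm_num) ▸ Nat.pow_le_pow_right two_pos ha
  exact Nat.eq_of_mul_eq_mul_left (Nat.mul_pos (by omega) (by omega)) hmul

include hPL in
/-- Elements centralizing a Sylow subgroup of a normal `PSL₂(2^a)` lie in it. -/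
theorem centralizer_sylow_le [IsSimpleGroup L] (hC : centralizer (L : Set G) = ⊥)
    {F : Type} [Field F] [Fintype F] {a : ℕ} (hF : Fintype.card F = 2 ^ a) (ha : 2 ≤ a)
    (e : L ≃* Matrix.ProjectiveSpecialLinearGroup (Fin 2) F) :
    centralizer ((P : Subgroup G) : Set G) ≤ (P : Subgroup G) := by
  classical
  haveI : Fact (Nat.Prime 2) := ⟨Nat.prime_two⟩
  obtain ⟨hcard, hcent, hn⟩ := psl_even_sylow hF ha e (P.subtype hPL)
  have hPcard : Nat.card (P : Subgroup G) = 2 ^ a := by
    rw [← hcard, Sylow.coe_subtype, Nat.card_congr (subgroupOfEquivOfLe hPL).toEquiv]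
  have hΩ : Nat.card (Sylow 2 G) = 2 ^ a + 1 := by
    rw [← hn]
    refine Nat.card_congr (Equiv.ofBijective
      (fun Q : Sylow 2 G => Q.subtype (sylow_le_of_normal P hPL Q)) ⟨fun Q R h => ?_, fun T => ?_⟩)
    · refine Sylow.ext ?_
      have h1 := congrArg (fun S : Sylow 2 L => (S : Subgroup L).map L.subtype) h
      simpa [Sylow.coe_subtype, map_subgroupOf_eq_of_le, sylow_le_of_normal P hPL] using h1
    · obtain ⟨l, hl⟩ := MulAction.exists_smul_eq L (P.subtype hPL) T
      refine ⟨(l : G) • P, Sylow.ext ?_⟩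
      rw [← hl]
      exact congrArg (fun S : Sylow 2 L => (S : Subgroup L)) (Sylow.smul_subtype hPL l).symm
  -- the Sylow subgroup is regular on the others
  have hfree : ∀ Q : Sylow 2 G, Q ≠ P → ∀ v ∈ (P : Subgroup G), v • Q = Q → v = 1 := by
    intro Q hQ v hv hfix
    by_contra hv1
    have hvn := Sylow.smul_eq_iff_mem_normalizer.1 hfix
    have hvQ : v ∈ (Q : Subgroup G) := by
      have hp : IsPGroup 2 (zpowers v) := P.2.to_le (zpowers_le.2 hv)
      have h := hp.inf_normalizer_sylow Q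
      exact (mem_inf.1 (h.le (mem_inf.2 ⟨mem_zpowers v, hvn⟩))).2
    obtain ⟨hcard', hcent', -⟩ := psl_even_sylow hF ha e (Q.subtype (sylow_le_of_normal P hPL Q))
    have hvL : v ∈ L := hPL hv
    have hne : (⟨v, hvL⟩ : L) ≠ 1 := fun h => hv1 (congrArg Subtype.val h)
    have h1 := hcent ⟨v, hvL⟩ (by simpa [Sylow.coe_subtype, mem_subgroupOf] using hv) hne
    have h2 := hcent' ⟨v, hvL⟩ (by simpa [Sylow.coe_subtype, mem_subgroupOf] using hvQ) hne
    rw [h1] at h2
    refine hQ (Sylow.ext ?_)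
    have h3 := congrArg (fun S : Subgroup L => S.map L.subtype) h2
    simp only [Sylow.coe_subtype, map_subgroupOf_eq_of_le (sylow_le_of_normal P hPL Q),
      map_subgroupOf_eq_of_le hPL] at h3
    exact h3.symm
  have hodd : ∀ x ∈ centralizer ((P : Subgroup G) : Set G), Odd (orderOf x) → x = 1 := by
    intro x hx hxo
    have hxP : x • P = P := Sylow.smul_eq_iff_mem_normalizer.2 (centralizer_le_normalizer _ hx)
    have hall : ∀ Q : Sylow 2 G, x • Q = Q := by
      intro Q
      by_cases hQ : Q = P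
      · rw [hQ, hxP]
      have hne : ∀ v ∈ (P : Subgroup G), v • Q ≠ P := fun v hv h => hQ (by
        rw [← inv_smul_smul v Q, h]
        exact Sylow.smul_eq_iff_mem_normalizer.2 (le_normalizer (inv_mem hv)))
      let f : ↥(P : Subgroup G) → {R : Sylow 2 G // R ≠ P} := fun v => ⟨(v : G) • Q, hne v v.2⟩
      have hfi : Function.Injective f := fun v w h => by
        have h1 : (v : G) • Q = (w : G) • Q := congrArg Subtype.val h
        have h2 := hfree Q hQ ((w : G)⁻¹ * v) (mul_mem (inv_mem w.2) v.2)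
          (by rw [mul_smul, h1, inv_smul_smul])
        exact Subtype.ext (inv_mul_eq_one.1 h2).symm
      have hfb : Function.Bijective f := (Nat.bijective_iff_injective_and_card f).2 ⟨hfi, by
        haveI := Fintype.ofFinite (Sylow 2 G)
        rw [hPcard, Nat.card_eq_fintype_card, Fintype.card_subtype_compl, Fintype.card_subtype_eq,
          ← Nat.card_eq_fintype_card, hΩ, Nat.add_sub_cancel]⟩
      obtain ⟨v, hv⟩ := hfb.2 ⟨x • Q, fun h => hQ (smul_left_cancel x (h.trans hxP.symm))⟩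
      have hvQ : (v : G) • Q = x • Q := congrArg Subtype.val hv
      have hvx : Commute (v : G) x := mem_centralizer_iff.1 hx v v.2
      have hiter : ∀ m : ℕ, x ^ m • Q = (v : G) ^ m • Q := by
        intro m
        induction m with
        | zero => simp
        | succ m ih =>
          rw [pow_succ, mul_smul, ← hvQ, ← mul_smul, (hvx.symm.pow_left m).eq, mul_smul, ih,
            ← mul_smul, ← pow_succ']
      have h2 := hiter (orderOf x)
      rw [pow_orderOf_eq_one, one_smul] at h2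
      have hvv : (v : G) ^ orderOf x = 1 := hfree Q hQ _ (pow_mem v.2 _) h2.symm
      obtain ⟨j, hj⟩ := IsPGroup.iff_orderOf.1 P.2 v
      have hd : orderOf (v : G) ∣ orderOf x := orderOf_dvd_of_pow_eq_one hvv
      rw [Subgroup.orderOf_coe, hj] at hd
      rcases j with _ | j
      · rw [pow_zero, orderOf_eq_one_iff] at hj
        rw [← hvQ, hj, OneMemClass.coe_one, one_smul]
      · exact absurd ((dvd_pow_self 2 j.succ_ne_zero).trans hd) fun h =>
          Nat.not_even_iff_odd.2 hxo (even_iff_two_dvd.2 h)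
    -- trivial on all Sylow subgroups
    set K := (MulAction.toPermHom G (Sylow 2 G)).ker with hK
    have hmemK : ∀ g : G, g ∈ K ↔ ∀ Q : Sylow 2 G, g • Q = Q := fun g => by
      rw [hK, MonoidHom.mem_ker]
      exact ⟨fun h Q => congrFun (congrArg (fun π : Equiv.Perm (Sylow 2 G) => (π : _ → _)) h) Q,
        fun h => Equiv.ext h⟩
    have hKL : K.subgroupOf L = ⊥ := by
      refine (IsSimpleGroup.eq_bot_or_eq_top_of_normal _ inferInstance).resolve_right fun h => ?_
      have hPfix : ∀ Q : Sylow 2 G, Q = P := fun Q => by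
        by_contra hQ
        obtain ⟨v, hv, hv1⟩ := (bot_or_exists_ne_one (P : Subgroup G)).resolve_left fun hb => by
          rw [hb, card_bot] at hPcard
          have := Nat.one_lt_two_pow (n := a) (by omega)
          omega
        exact hv1 (hfree Q hQ v hv ((hmemK v).1 (subgroupOf_eq_top.1 h (hPL hv)) Q))
      haveI : Subsingleton (Sylow 2 G) := ⟨fun Q R => by rw [hPfix Q, hPfix R]⟩
      rw [Nat.card_of_subsingleton P] at hΩ
      have := Nat.two_pow_pos a
      omega
    refine mem_bot.1 (hC ▸ mem_centralizer_iff.2 fun l hl => ?_)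
    have hc : x * l * x⁻¹ * l⁻¹ ∈ K := by
      have hxK : x ∈ K := (hmemK x).2 hall
      rw [show x * l * x⁻¹ * l⁻¹ = x * (l * x⁻¹ * l⁻¹) by group]
      exact mul_mem hxK ((inferInstance : K.Normal).conj_mem _ (inv_mem hxK) l)
    have hcL : x * l * x⁻¹ * l⁻¹ ∈ L := mul_mem (hLn.conj_mem l hl x) (inv_mem hl)
    have hb : (⟨_, hcL⟩ : L) ∈ K.subgroupOf L := mem_subgroupOf.2 hc
    rw [hKL, mem_bot] at hb
    have hb' : x * l * x⁻¹ * l⁻¹ = 1 := congrArg Subtype.val hb
    exact (mul_inv_eq_iff_eq_mul.1 (mul_inv_eq_one.1 hb')).symm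
  intro y hy
  obtain ⟨j, m, hm, hjm⟩ := Nat.exists_eq_pow_mul_and_not_dvd (orderOf_pos y).ne' 2 (by norm_num)
  have hy2 : y ^ 2 ^ j = 1 := hodd _ (pow_mem hy _) (by
    rw [orderOf_pow_of_dvd (by positivity) (Dvd.intro m hjm.symm), hjm,
      Nat.mul_div_cancel_left _ (by positivity)]
    exact Nat.odd_iff.2 (Nat.two_dvd_ne_zero.1 hm))
  obtain ⟨i, -, hi⟩ := (Nat.dvd_prime_pow Nat.prime_two).1 (orderOf_dvd_of_pow_eq_one hy2)
  have hp : IsPGroup 2 (zpowers y) := IsPGroup.of_card (n := i) (by rw [Nat.card_zpowers, hi])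
  have h := hp.inf_normalizer_sylow P
  exact (mem_inf.1 (h.le (mem_inf.2 ⟨mem_zpowers y, centralizer_le_normalizer _ hy⟩))).2

/-- `PSL₂(5)` is `PSL₂(4)`. -/
theorem exists_four_of_five {F : Type} [Field F] [Fintype F] (hF : Fintype.card F = 5) :
    ∃ (K : Type) (_ : Field K) (_ : Fintype K), Fintype.card K = 2 ^ 2 ∧
      Nonempty (Matrix.ProjectiveSpecialLinearGroup (Fin 2) F ≃*
        Matrix.ProjectiveSpecialLinearGroup (Fin 2) K) := by
  haveI : Fact (Nat.Prime 2) := ⟨Nat.prime_two⟩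
  haveI : Fintype (GaloisField 2 2) := Fintype.ofFinite _
  have h4 : Fintype.card (GaloisField 2 2) = 2 ^ 2 := by
    rw [← Nat.card_eq_fintype_card, GaloisField.card 2 2 two_ne_zero]
  obtain ⟨e⟩ := Cfsg.Agent.S0253.result hF
  obtain ⟨e'⟩ := Cfsg.Agent.S0252.result (F := GaloisField 2 2) (by rw [h4]; norm_num)
  exact ⟨GaloisField 2 2, inferInstance, inferInstance, h4, ⟨e.trans e'.symm⟩⟩

end Cfsg.Lib.Block.ConstDiff
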