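import Cfsg.Agent.Lib.Block.ConstDiff.Ree
import Cfsg.Agent.Lib.Block.ConstDiff.Structure
import Cfsg.Agent.Lib.Block.RegularOrbitSixteen
import Cfsg.Agent.Lib.Block.PrimeInertia.Basic
import Cfsg.Agent.Lib.Walter3.CentClause
import Cfsg.Agent.Lib.Char.Linear
import Cfsg.Agent.S4626
import Cfsg.Agent.S0205
import Cfsg.Agent.S0276

/-!
# Constant difference between degree and value: the classification

For trivial odd core: the identity, a group of order two, or an involution of `PSL₂(2^n)`.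
-/

set_option autoImplicit false
set_option linter.unusedSectionVars false
set_option linter.style.haveILetI false

namespace Cfsg.Lib.Block.ConstDiff

open Cfsg Cfsg.Lib Cfsg.Lib.Block Subgroup
open scoped ComplexConjugate Classical

universe u

variable {M : Ideal AlgInt} (hM : IsPModular 2 M) {G : Type u} [Group G] [Fintype G]

noncomputable local instance (priority := high) fintypeSubgroupConstMain {A : Type u}
    [Group A] [Fintype A] (H : Subgroup A) : Fintype H := Fintype.ofFinite H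

/-- The three possibilities. -/
def Alternatives (u : G) : Prop :=
  u = 1 ∨ (Nat.card G = 2 ∧ u ≠ 1) ∨
    (∃ (F : Type) (_ : Field F) (_ : Fintype F) (n : ℕ), 2 ≤ n ∧ Fintype.card F = 2 ^ n ∧
      Nonempty (G ≃* Matrix.ProjectiveSpecialLinearGroup (Fin 2) F) ∧ u ≠ 1 ∧ u ^ 2 = 1)

include hM in
/-- A linear member of the nonprincipal part bounds the difference by two. -/
theorem diff_le_two {u : G} {q : ℕ} (h : Const M u (q : ℂ)) {χ : IrrCharacter G}
    (hχ : χ ∈ rest M G) (h1 : (χ : G → ℂ) 1 = 1) : q ≤ 2 := by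
  have e := h χ (mem_rest.1 hχ).1 (mem_rest.1 hχ).2
  have hn := χ.2.isCharacter.norm_le u
  rw [h1, Complex.one_re] at hn
  have h2 : ‖(χ : G → ℂ) 1 - (χ : G → ℂ) u‖ ≤ 2 := by
    refine (norm_sub_le _ _).trans ?_
    rw [h1, norm_one]
    linarith
  rw [e, Complex.norm_natCast] at h2
  exact_mod_cast h2

include hM in
/-- A nontrivial soluble quotient of index prime to two over the Sylow centralizer. -/
theorem diff_le_two_of_quotient (P : Sylow 2 G) (N : Subgroup G) [N.Normal]
    [Group.IsSolvable (G ⧸ N)] (hne : N ≠ ⊤) (hidx : ¬ 2 ∣ N.index)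
    (hC : centralizer ((P : Subgroup G) : Set G) ≤ N) {u : G} {q : ℕ} (h : Const M u (q : ℂ)) :
    q ≤ 2 := by
  haveI : Fact (Nat.Prime 2) := ⟨Nat.prime_two⟩
  haveI : Nontrivial (G ⧸ N) := by
    rw [← Finite.one_lt_card_iff_nontrivial, ← index_eq_card]
    have h1 : N.index ≠ 1 := fun e => hne (index_eq_one.1 e)
    have h0 : N.index ≠ 0 := index_ne_zero_of_finite
    omega
  haveI := Fintype.ofFinite (G ⧸ N)
  have hcard : 1 < Nat.card ((G ⧸ N) →* ℂˣ) := by
    rw [Char.card_linear_eq_index]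
    have h1 : (commutator (G ⧸ N)).index ≠ 1 := fun e =>
      (Group.IsSolvable.commutator_lt_top_of_nontrivial (G := G ⧸ N)).ne (index_eq_one.1 e)
    have h0 : (commutator (G ⧸ N)).index ≠ 0 := index_ne_zero_of_finite
    omega
  haveI : Finite ((G ⧸ N) →* ℂˣ) := Nat.finite_of_card_ne_zero (by omega)
  haveI := Finite.one_lt_card_iff_nontrivial.1 hcard
  obtain ⟨φ, hφ⟩ := exists_ne (1 : (G ⧸ N) →* ℂˣ)
  obtain ⟨χ, hχ⟩ : ∃ χ : IrrCharacter G, ∀ g, (χ : G → ℂ) g = (φ (g : G ⧸ N) : ℂ) :=
    ⟨⟨_, Char.isIrrCharacter_linear (φ.comp (QuotientGroup.mk' N))⟩, fun _ => rfl⟩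
  have h1 : (χ : G → ℂ) 1 = 1 := by rw [hχ, QuotientGroup.mk_one, map_one, Units.val_one]
  refine diff_le_two hM h (χ := χ) (mem_rest.2 ⟨?_, fun he => hφ ?_⟩) h1
  · refine Cfsg.Agent.S4626.result 2 M hM P N hidx hC χ fun n hn => ?_
    rw [h1, hχ, (QuotientGroup.eq_one_iff n).2 hn, map_one, Units.val_one]
  · refine MonoidHom.ext fun x => ?_
    induction x using QuotientGroup.induction_on with
    | H g => exact Units.ext (by rw [← hχ, he]; rfl)

include hM in
/-- An irreducible character with a trivial constituent on a normal subgroup is trivial on it. -/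
theorem trivial_on_of_constituent {N : Subgroup G} [N.Normal] {χ : IrrCharacter G}
    {θ : IrrCharacter N} (hθ : classInner (fun x : N => (χ : G → ℂ) x) (θ : N → ℂ) ≠ 0)
    (h1 : (θ : N → ℂ) = fun _ => 1) : ∀ n ∈ N, (χ : G → ℂ) n = (χ : G → ℂ) 1 := by
  haveI : Fact (Nat.Prime 2) := ⟨Nat.prime_two⟩
  have hsum : ∑ᶠ n : N, (χ : G → ℂ) n ≠ 0 := by
    intro h0
    refine hθ ?_
    rw [finsum_eq_sum_of_fintype] at h0
    rw [classInner, h1]
    simp only [map_one, mul_one, h0, mul_zero]
  obtain ⟨ψ, hψ, hne⟩ := exists_trivial_on_of_classInner_ne (Q := N) χ.2.isClassFunction hsum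
  have : χ = ψ := Subtype.ext (by
    by_contra hcon
    exact hne (Char.classInner_irr_ne χ.2 ψ.2 hcon))
  rw [this]
  exact hψ

include hM in
/-- In a perfect situation with four-group Sylow subgroup the socle is `PSL₂(5)`. -/
theorem card_five (P : Sylow 2 G) (h4 : Nat.card (P : Subgroup G) = 4) {t u : G}
    (ht : orderOf t = 2) (htu : pPt 2 u ≠ 1) [Fact (Nat.Prime 2)] (h : Const M u (4 : ℂ))
    (hsq : ∀ v ∈ (P : Subgroup G), v * v = 1)
    (hfuse : ∀ y : G, (∃ j : ℕ, orderOf y = 2 ^ j) → y ≠ 1 → IsConj t y)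
    {L : Subgroup G} [L.Normal] (hPL : (P : Subgroup G) ≤ L) [IsSimpleGroup L]
    (hna : ¬ IsMulCommutative L) {F : Type} [Field F] [Fintype F]
    (e : L ≃* Matrix.ProjectiveSpecialLinearGroup (Fin 2) F)
    (hq : Fintype.card F % 8 = 3 ∨ Fintype.card F % 8 = 5) (h5 : 5 ≤ Fintype.card F) :
    Fintype.card F = 5 := by
  have hpow : ∀ {a : G}, orderOf a = 2 → ∃ j : ℕ, orderOf a = 2 ^ j := fun h => ⟨1, by rw [h, pow_one]⟩
  have hne1 : ∀ {a : G}, orderOf a = 2 → a ≠ 1 := fun h e => by rw [e, orderOf_one] at h; omega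
  have hK : KleinCond P := ⟨h4, hsq, fun a b ha hb =>
    (hfuse a (hpow ha) (hne1 ha)).symm.trans (hfuse b (hpow hb) (hne1 hb))⟩
  have h' : Const M u ((4 : ℕ) : ℂ) := by simpa using h
  have hdeg : ∀ χ ∈ rest M G, 2 ≤ deg χ := fun χ hχ => by
    have hpos := deg_pos χ
    by_contra hlt
    have h1 : (χ : G → ℂ) 1 = 1 := by rw [deg_spec, show deg χ = 1 by omega, Int.cast_one]
    have := diff_le_two hM h' hχ h1
    omega
  obtain ⟨-, hex⟩ := klein_facts hM hK ht hdeg
  have hn : ((rest M G).card : ℤ) = 3 := by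
    rw [rest, Finset.card_erase_of_mem (Set.mem_toFinset.2 (trivChar_mem_principal hM)),
      Set.toFinset_card, ← Nat.card_eq_fintype_card, (klein_signs hM hK ht).2]
    norm_num
  have hS := sum_deg_sq_le hM (q := 4) (by norm_num) h' htu
  rw [hn] at hS
  push_cast at hS
  obtain ⟨χ, hχ, hd, hf⟩ := hex (by linarith)
  obtain ⟨θ, hθ⟩ := Char.exists_irr_constituent_res L χ.2
  have h3 : charDegree (χ : G → ℂ) = 3 := by
    rw [deg] at hd; exact_mod_cast hd
  obtain ⟨hdvd, -⟩ := Char.degree_ratio_dvd_index L χ.2 θ.2 hθ (c := 3)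
    (by rw [apply_one_eq_charDegree, h3]) (apply_one_eq_charDegree θ)
  rcases (Nat.dvd_prime Nat.prime_three).1 hdvd with h1 | h1
  · exfalso
    by_cases hθ1 : θ = trivChar L
    · have htL : t ∈ L := isConj_mem (hfuse t (hpow ht) (hne1 ht)) (by
        obtain ⟨c, hc⟩ := Invol.exists_conj_mem_sylow P (IsPGroup.of_card (n := 1)
          (by rw [Nat.card_zpowers, ht, pow_one]) : IsPGroup 2 (zpowers t))
        have := (inferInstance : L.Normal).conj_mem _ (hPL (hc t (mem_zpowers t))) c⁻¹
        simpa [mul_assoc] using this)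
      have hv := trivial_on_of_constituent hM hθ (by rw [hθ1, trivChar_coe]) t htL
      rw [valInt_spec ht, deg_spec, hd, hf] at hv
      norm_num at hv
    · have := Small.two_le_charDegree (fun hcyc => hna ⟨⟨by
        letI := IsCyclic.commGroup (α := L)
        exact fun a b => mul_comm a b⟩⟩) (χ := θ) hθ1
      omega
  · exact card_five_of_degree_three e hq h5 θ.2 (by rw [apply_one_eq_charDegree, h1]; norm_num)

include hM in
theorem core_free_mp (hO : oddCore G = ⊥) {u : G} (h : ∃ k : ℂ, Const M u k) : Alternatives u := by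
  haveI : Fact (Nat.Prime 2) := ⟨Nat.prime_two⟩
  obtain ⟨k, h⟩ := h
  by_cases hu1 : u = 1
  · exact Or.inl hu1
  have hk : k ≠ 0 := fun hk => hu1 (eq_one_of_zero hM hO (hk ▸ h))
  have h2 : 2 ∣ Nat.card G := by
    by_contra h2
    have hodd : (Nat.card (⊤ : Subgroup G)).Coprime 2 := by
      rw [card_top]; exact (Nat.prime_two.coprime_iff_not_dvd.2 h2).symm
    have := Core.le_pPrimeCore (p := 2) (N := (⊤ : Subgroup G)) hodd
    rw [show pPrimeCore 2 G = ⊥ from hO, le_bot_iff] at this
    exact hu1 (mem_bot.1 (this ▸ mem_top u))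
  obtain ⟨z, hz⟩ := exists_prime_orderOf_dvd_card' (G := G) 2 h2
  set t := pPt 2 u with ht
  have hfuse : ∀ y : G, (∃ j : ℕ, orderOf y = 2 ^ j) → y ≠ 1 → IsConj t y := fun y hy hy1 =>
    isConj_of_two hM h hk hy hy1
  have ht2 : orderOf t = 2 := by
    obtain ⟨c, hc⟩ := isConj_iff.1 (hfuse z ⟨1, by rw [hz, pow_one]⟩ fun e => by
      rw [e, orderOf_one] at hz; omega)
    rw [← hz, ← hc, ← MulAut.conj_apply, MulEquiv.orderOf_eq]
  have ht1 : t ≠ 1 := fun e => by rw [e, orderOf_one] at ht2; omega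
  obtain ⟨P, hP⟩ := (IsPGroup.of_card (n := 1) (by rw [Nat.card_zpowers, ht2, pow_one]) :
    IsPGroup 2 (zpowers t)).exists_le_sylow
  have htP : t ∈ (P : Subgroup G) := hP (mem_zpowers t)
  have hsq : ∀ v ∈ (P : Subgroup G), v * v = 1 := fun v hv => by
    rcases eq_or_ne v 1 with rfl | hv1
    · exact one_mul 1
    obtain ⟨j, hj⟩ := IsPGroup.iff_orderOf.1 P.2 ⟨v, hv⟩
    rw [Subgroup.orderOf_mk] at hj
    obtain ⟨c, hc⟩ := isConj_iff.1 (hfuse v ⟨j, hj⟩ hv1)
    rw [← hc, show c * t * c⁻¹ * (c * t * c⁻¹) = c * (t * t) * c⁻¹ by group,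
      show t * t = 1 by rw [← pow_two, ← ht2, pow_orderOf_eq_one], mul_one, mul_inv_cancel]
  have hab : IsMulCommutative (P : Subgroup G) := ⟨⟨fun a b => Subtype.ext (by
    have hi : ∀ w ∈ (P : Subgroup G), w⁻¹ = w := fun w hw => inv_eq_of_mul_eq_one_right (hsq w hw)
    show (a : G) * b = b * a
    calc (a : G) * b = ((a : G) * b)⁻¹ := (hi _ (mul_mem a.2 b.2)).symm
      _ = (b : G)⁻¹ * (a : G)⁻¹ := mul_inv_rev _ _
      _ = b * a := by rw [hi _ a.2, hi _ b.2])⟩⟩
  have hPt : (P : Subgroup G) ≤ centralizer ({t} : Set G) := fun v hv =>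
    mem_centralizer_singleton_iff.2
      (congrArg Subtype.val (hab.is_comm.comm (⟨v, hv⟩ : (P : Subgroup G)) ⟨t, htP⟩))
  have hkq := eq_card_sylow hM h hk P hPt ht2
  rw [hkq] at h
  by_cases hsol : Group.IsSolvable G
  · haveI := hsol
    obtain ⟨hn, hC⟩ := AbTwo.sylow_normal_of_core P hab hO
    haveI := hn
    refine Or.inr (Or.inl ⟨?_, hu1⟩)
    by_cases hP2 : Nat.card (P : Subgroup G) ≤ 2
    · have h2' : Nat.card (P : Subgroup G) = 2 := by
        have h1 : 2 ∣ Nat.card (P : Subgroup G) := by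
          have := Subgroup.orderOf_dvd_natCard _ htP
          rwa [ht2] at this
        have := Nat.le_of_dvd Nat.card_pos h1
        omega
      have htop : centralizer ((P : Subgroup G) : Set G) = ⊤ := by
        refine eq_top_iff.2 fun g _ => mem_centralizer_iff.2 fun v hv => ?_
        have hgv : g * v * g⁻¹ = v := by
          haveI := Fintype.ofFinite (P : Subgroup G)
          rcases eq_or_ne v 1 with rfl | hv1
          · group
          have hne : g * v * g⁻¹ ≠ 1 := fun e => hv1 (conj_eq_one_iff.1 e)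
          by_contra hcon
          let s : Finset (P : Subgroup G) := {1, ⟨v, hv⟩, ⟨g * v * g⁻¹, hn.conj_mem v hv g⟩}
          have hs : s.card = 3 := Finset.card_eq_three.2 ⟨_, _, _,
            fun e => hv1 (congrArg Subtype.val e).symm, fun e => hne (congrArg Subtype.val e).symm,
            fun e => hcon (congrArg Subtype.val e).symm, rfl⟩
          have := Finset.card_le_univ s
          rw [← Nat.card_eq_fintype_card, h2', hs] at this
          omega
        exact (mul_inv_eq_iff_eq_mul.1 hgv).symm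
      have hPtop : (P : Subgroup G) = ⊤ := top_le_iff.1 (by rw [← htop]; exact hC)
      rw [← card_top (G := G), ← hPtop, h2']
    · exfalso
      by_cases hN : (P : Subgroup G) = ⊤
      · have hcom : ∀ a b : G, a * b = b * a := fun a b => congrArg Subtype.val
          (hab.is_comm.comm (⟨a, hN.ge (mem_top a)⟩ : (P : Subgroup G)) ⟨b, hN.ge (mem_top b)⟩)
        have hsub : ∀ y ∈ (P : Subgroup G), y = 1 ∨ y = t := fun y hy => by
          refine (eq_or_ne y 1).imp id fun hy1 => ?_
          obtain ⟨j, hj⟩ := IsPGroup.iff_orderOf.1 P.2 ⟨y, hy⟩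
          rw [Subgroup.orderOf_mk] at hj
          obtain ⟨c, hc⟩ := isConj_iff.1 (hfuse y ⟨j, hj⟩ hy1)
          rw [← hc, hcom c t, mul_inv_cancel_right]
        haveI := Fintype.ofFinite (P : Subgroup G)
        have : (Finset.univ : Finset (P : Subgroup G)) ⊆ {1, ⟨t, htP⟩} := fun y _ => by
          rcases hsub y y.2 with e | e
          · exact Finset.mem_insert.2 (Or.inl (Subtype.ext e))
          · exact Finset.mem_insert.2 (Or.inr (Finset.mem_singleton.2 (Subtype.ext e)))
        have h3 := (Finset.card_le_card this).trans Finset.card_le_two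
        rw [Finset.card_univ, ← Nat.card_eq_fintype_card] at h3
        exact hP2 h3
      · exact hP2 (diff_le_two_of_quotient hM P (P : Subgroup G) hN P.not_dvd_index hC h)
  obtain ⟨L, hLn, hLs, hna, hPL, hCL⟩ := exists_simple_top P hab hO hsol hfuse
  haveI := hLn
  haveI := hLs
  have hScomm : IsMulCommutative ((P.subtype hPL : Sylow 2 L) : Subgroup L) :=
    ⟨⟨fun a b => Subtype.ext (Subtype.ext (by
      show ((a : L) : G) * ((b : L) : G) = ((b : L) : G) * ((a : L) : G)
      exact congrArg Subtype.val (hab.is_comm.comm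
        (⟨_, mem_subgroupOf.1 a.2⟩ : (P : Subgroup G)) ⟨_, mem_subgroupOf.1 b.2⟩)))⟩⟩
  have hPL' : Nat.card ((P.subtype hPL : Sylow 2 L) : Subgroup L) = Nat.card (P : Subgroup G) := by
    rw [Sylow.coe_subtype, Nat.card_congr (subgroupOfEquivOfLe hPL).toEquiv]
  have hgood : SimpleAbTwo.IsGoodPSLTwo L :=
    (SimpleAbTwo.cases hna (P.subtype hPL) hScomm (Walter3.centClause L hna)).resolve_right
      (not_twoTimes hM P hPL h ht1 hfuse hsq)
  -- reduce to characteristic two
  obtain ⟨F, iF, iF', a, ha, hF, ⟨e⟩⟩ : ∃ (F : Type) (_ : Field F) (_ : Fintype F) (a : ℕ),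
      2 ≤ a ∧ Fintype.card F = 2 ^ a ∧
        Nonempty (L ≃* Matrix.ProjectiveSpecialLinearGroup (Fin 2) F) := by
    obtain ⟨F, iF, iF', hF, ⟨e⟩⟩ := hgood
    rcases hF with ⟨a, ha, hF⟩ | ⟨hq, h5⟩
    · exact ⟨F, iF, iF', a, ha, hF, ⟨e⟩⟩
    have h4 : Nat.card (P : Subgroup G) = 4 := by
      obtain ⟨Q⟩ : Nonempty (Sylow 2 (Matrix.ProjectiveSpecialLinearGroup (Fin 2) F)) :=
        inferInstance
      haveI := Cfsg.Agent.S0276.result rfl hq Q
      rw [← hPL', ← IsKleinFour.card_four (G := (Q : Subgroup (Matrix.ProjectiveSpecialLinearGroup (Fin 2) F))), Sylow.card_eq_multiplicity,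
        Sylow.card_eq_multiplicity, Nat.card_congr e.toEquiv]
    rw [h4] at h
    have h5' := card_five hM P h4 ht2 ht1 (by simpa using h) hsq hfuse hPL hna e hq h5
    obtain ⟨K, iK, iK', hK, ⟨e'⟩⟩ := exists_four_of_five h5'
    exact ⟨K, iK, iK', 2, le_rfl, hK, ⟨e.trans e'⟩⟩
  obtain ⟨hcard, hcent, -⟩ := psl_even_sylow hF ha e (P.subtype hPL)
  have hq4 : 4 ≤ Nat.card (P : Subgroup G) := by
    rw [← hPL', hcard, show 4 = 2 ^ 2 by norm_num]
    exact Nat.pow_le_pow_right two_pos ha
  have hCP := centralizer_sylow_le P hPL hCL hF ha e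
  have htop : L = ⊤ := by
    by_contra hne
    haveI : Group.IsSolvable (G ⧸ L) := Cfsg.Agent.S0205.result (by
      rw [← index_eq_card]
      exact Nat.odd_iff.2 (Nat.two_dvd_ne_zero.1 fun hd =>
        P.not_dvd_index (hd.trans (index_dvd_of_le hPL))))
    have := diff_le_two_of_quotient hM P L hne
      (fun hd => P.not_dvd_index (hd.trans (index_dvd_of_le hPL))) (hCP.trans hPL) h
    omega
  refine Or.inr (Or.inr ⟨F, iF, iF', a, ha, hF,
    ⟨(topEquiv.symm.trans (MulEquiv.subgroupCongr htop.symm)).trans e⟩, hu1, ?_⟩)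
  have hwL : pReg 2 u ∈ L := htop ▸ mem_top _
  have hmem : (⟨pReg 2 u, hwL⟩ : L) ∈ centralizer ({(⟨t, hPL htP⟩ : L)} : Set L) :=
    mem_centralizer_singleton_iff.2 (Subtype.ext (pPt_commute_pReg u).symm.eq)
  rw [hcent ⟨t, hPL htP⟩ (by rw [Sylow.coe_subtype, mem_subgroupOf]; exact htP)
    (fun e => ht1 (congrArg Subtype.val e)), Sylow.coe_subtype, mem_subgroupOf] at hmem
  have hw1 : pReg 2 u = 1 := by
    have hd : orderOf (pReg 2 u) ∣ 2 := orderOf_dvd_of_pow_eq_one (by rw [pow_two]; exact hsq _ hmem)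
    rcases (Nat.dvd_prime Nat.prime_two).1 hd with h' | h'
    · exact orderOf_eq_one_iff.1 h'
    · exact absurd h'.symm.dvd (not_dvd_orderOf_pReg (p := 2) u)
  rw [← pPt_mul_pReg (p := 2) u, hw1, mul_one, ← ht, ← ht2, pow_orderOf_eq_one]

include hM in
/-- The values on an involution of `PSL₂(2^n)`. -/
theorem const_psl {F : Type} [Field F] [Fintype F] {n : ℕ} (hn : 2 ≤ n) (hF : Fintype.card F = 2 ^ n)
    (e : G ≃* Matrix.ProjectiveSpecialLinearGroup (Fin 2) F) {u : G} (hu1 : u ≠ 1)
    (hu2 : u ^ 2 = 1) : Const M u ((2 ^ n : ℕ) : ℂ) := by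
  haveI : Fact (Nat.Prime 2) := ⟨Nat.prime_two⟩
  have hq4 : 4 ≤ 2 ^ n := (show 4 = 2 ^ 2 by norm_num) ▸ Nat.pow_le_pow_right two_pos hn
  haveI hS := Cfsg.Lib.Dickson.isSimpleGroup_psl_two (F := F) (by omega)
  haveI : Nontrivial G := e.toEquiv.nontrivial
  haveI : IsSimpleGroup G := IsSimpleGroup.isSimpleGroup_of_surjective e.symm.toMonoidHom e.symm.surjective
  have hu : orderOf u = 2 := orderOf_eq_prime hu2 hu1
  obtain ⟨P, hP⟩ := (IsPGroup.of_card (n := 1) (by rw [Nat.card_zpowers, hu, pow_one]) :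
    IsPGroup 2 (zpowers u)).exists_le_sylow
  obtain ⟨hsq, hcard, ⟨x, -, htr⟩, -⟩ := WalterBig.psl_two_torus hF e P
  have hone : ∀ v ∈ (P : Subgroup G), v ≠ 1 → IsConj u v := fun v hv hv1 => by
    obtain ⟨i, hi⟩ := htr u (hP (mem_zpowers u)) hu1 v hv hv1
    exact isConj_iff.2 ⟨_, hi⟩
  have hnc : ¬ IsCyclic G := fun h => by
    letI := IsCyclic.commGroup (α := G)
    have hp := IsSimpleGroup.prime_card (α := G)
    have h4 : 4 ∣ Nat.card G := by
      have := (P : Subgroup G).card_subgroup_dvd_card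
      rw [hcard] at this
      exact ((show 4 = 2 ^ 2 by norm_num) ▸ pow_dvd_pow 2 hn).trans this
    rcases (Nat.dvd_prime hp).1 h4 with h | h
    · omega
    · rw [← h] at hp; norm_num at hp
  intro χ hχ hχ1
  have hd2 := Small.two_le_charDegree hnc (χ := χ) (fun e => hχ1 (by rw [e]; rfl))
  obtain ⟨hdvd, hlow⟩ := value_facts hu hone χ
  rw [hcard] at hdvd hlow
  have hle := valInt_le hu χ
  have hne : valInt u χ ≠ deg χ := by
    intro he
    have hker : u ∈ Char.charKer χ.2.isCharacter := (Char.mem_charKer _).2 (by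
      rw [valInt_spec hu, deg_spec, he])
    rcases (Char.charKer_normal χ.2.isCharacter).eq_bot_or_eq_top with h | h
    · exact hu1 (mem_bot.1 (h ▸ hker))
    have hconst : ∀ g, (χ : G → ℂ) g = (χ : G → ℂ) 1 := fun g => (Char.mem_charKer _).1 (h ▸ mem_top g)
    have hinner := Char.classInner_irr_ne χ.2 (trivChar G).2 (by rw [trivChar_coe]; exact hχ1)
    rw [trivChar_coe, Char.classInner_one_right, Finset.sum_congr rfl fun g _ => hconst g,
      Finset.sum_const, Finset.card_univ, ← Nat.card_eq_fintype_card, nsmul_eq_mul,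
      inv_mul_cancel_left₀ Char.card_cast_ne_zero] at hinner
    exact χ.2.apply_one_ne_zero hinner
  -- the degree
  haveI : CharP F 2 := charP_of_card_eq_prime_pow hF
  have hη : IsIrrCharacter (Matrix.SpecialLinearGroup (Fin 2) F)
      (fun g => (χ : G → ℂ) ((e.trans Cfsg.Lib.Spec.pslEquivOfCharTwo).symm g)) :=
    Char.isIrrCharacter_comp_equiv (e.trans Cfsg.Lib.Spec.pslEquivOfCharTwo).symm χ.2
  have hdeg := (Cfsg.Agent.S2300.result (F := F)).1 _ hη
  simp only [map_one, apply_one_eq_charDegree χ, hF] at hdeg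
  have hcases : charDegree (χ : G → ℂ) = 2 ^ n - 1 ∨ charDegree (χ : G → ℂ) = 2 ^ n ∨
      charDegree (χ : G → ℂ) = 2 ^ n + 1 := by
    rcases hdeg with h | h | h | h
    · exfalso
      have : charDegree (χ : G → ℂ) = 1 := by exact_mod_cast h
      omega
    · refine Or.inl (Nat.cast_injective (R := ℂ) ?_)
      rw [h, Nat.cast_sub Nat.one_le_two_pow]
      push_cast
      ring
    · exact Or.inr (Or.inl (Nat.cast_injective (R := ℂ) (by rw [h])))
    · exact Or.inr (Or.inr (Nat.cast_injective (R := ℂ) (by rw [h]; push_cast; ring)))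
  have hval : valInt u χ = deg χ - (2 ^ n : ℕ) := by
    rcases hcases with h | h | h
    · have hd : deg χ = (2 ^ n : ℕ) - 1 := by rw [deg, h]; push_cast [Nat.one_le_two_pow]; ring
      obtain ⟨c, hc⟩ := hdvd
      have hc1 : c = 1 := by
        have hq : (4 : ℤ) ≤ ((2 ^ n : ℕ) : ℤ) := by exact_mod_cast hq4
        have hlt : valInt u χ < deg χ := lt_of_le_of_ne hle hne
        rw [hd] at hlt hlow hc
        have h1 : 0 < c := by nlinarith
        have h2 : c < 2 := by
          by_contra hcon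
          have hv : valInt u χ ≤ -((2 ^ n : ℕ) : ℤ) - 1 := by nlinarith
          nlinarith [mul_le_mul_of_nonneg_left hv (show (0 : ℤ) ≤ ((2 ^ n : ℕ) : ℤ) - 1 by linarith)]
        omega
      rw [hc1] at hc
      linarith
    · exfalso
      refine RegularOrbit.not_principal_of_dvd hM (hu ▸ orderOf_dvd_natCard u) (χ := χ) (fun m hm => ?_) hχ
      rw [h]
      refine pow_dvd_pow 2 ?_
      have h1 : 2 ^ m ∣ Nat.card (P : Subgroup G) := by
        rw [P.card_eq_multiplicity]
        exact pow_dvd_pow 2 ((Nat.prime_two.pow_dvd_iff_le_factorization Nat.card_pos.ne').1 hm)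
      rwa [hcard, Nat.pow_dvd_pow_iff_le_right (by norm_num)] at h1
    · have hd : deg χ = (2 ^ n : ℕ) + 1 := by rw [deg, h]; push_cast; ring
      obtain ⟨c, hc⟩ := hdvd
      have hc1 : c = 1 := by
        have hq : (4 : ℤ) ≤ ((2 ^ n : ℕ) : ℤ) := by exact_mod_cast hq4
        have hlt : valInt u χ < deg χ := lt_of_le_of_ne hle hne
        rw [hd] at hlt hlow hc
        have h1 : 0 < c := by nlinarith
        have h2 : c < 2 := by
          by_contra hcon
          have hv : valInt u χ ≤ -((2 ^ n : ℕ) : ℤ) + 1 := by nlinarith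
          nlinarith [mul_le_mul_of_nonneg_left hv (show (0 : ℤ) ≤ ((2 ^ n : ℕ) : ℤ) - 1 by linarith)]
        omega
      rw [hc1] at hc
      linarith
  rw [valInt_spec hu, hval, deg_spec]
  push_cast
  ring

include hM in
theorem core_free_mpr {u : G} (h : Alternatives u) : ∃ k : ℂ, Const M u k := by
  haveI : Fact (Nat.Prime 2) := ⟨Nat.prime_two⟩
  rcases h with rfl | ⟨h2, hu1⟩ | ⟨F, iF, iF', n, hn, hF, ⟨e⟩, hu1, hu2⟩
  · exact ⟨0, fun χ _ _ => sub_self _⟩
  · refine ⟨2, fun χ _ hχ1 => ?_⟩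
    have hcom : ∀ a b : G, a * b = b * a := by
      haveI : IsCyclic G := isCyclic_of_prime_card (p := 2) h2
      exact fun a b => IsCyclic.isMulCommutative.is_comm.comm a b
    have h1 := Char.degree_eq_one_of_comm hcom χ.2
    obtain ⟨φ, hφ⟩ := Char.exists_hom_of_degree_one χ.2.isCharacter h1
    have husq : u * u = 1 := by
      have := pow_card_eq_one' (x := u); rwa [h2, pow_two] at this
    have hall : ∀ g : G, g = 1 ∨ g = u := by
      intro g
      by_contra hcon
      push Not at hcon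
      let s : Finset G := {1, u, g}
      have hs : s.card = 3 := Finset.card_eq_three.2
        ⟨_, _, _, fun e => hu1 e.symm, fun e => hcon.1 e.symm, fun e => hcon.2 e.symm, rfl⟩
      have := Finset.card_le_univ s
      rw [← Nat.card_eq_fintype_card, h2, hs] at this
      omega
    have hv : (χ : G → ℂ) u * (χ : G → ℂ) u = 1 := by
      simp only [hφ, ← Units.val_mul, ← map_mul, husq, map_one, Units.val_one]
    rcases mul_self_eq_one_iff.1 hv with hv | hv
    · refine absurd (funext fun g => ?_) hχ1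
      rcases hall g with rfl | rfl
      · exact h1
      · exact hv
    · rw [h1, hv]; norm_num
  · exact ⟨_, const_psl hM hn hF e hu1 hu2⟩

variable (K : Subgroup G) [K.Normal]

include hM in
/-- The condition is read off modulo the odd core. -/
theorem const_quotient [Fintype (G ⧸ K)] (hK : ¬ 2 ∣ Nat.card K) (u : G) (k : ℂ) :
    Const M (u : G ⧸ K) k ↔ Const M u k := by
  haveI : Fact (Nat.Prime 2) := ⟨Nat.prime_two⟩
  have hiff : ∀ ψ : IrrCharacter (G ⧸ K),
      infl K ψ ∈ principalBlock M G ↔ ψ ∈ principalBlock M (G ⧸ K) := by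
    intro ψ
    rw [mem_principal_iff_regSum hM, mem_principal_iff_regSum hM]
    have e : ∑ g, pRegularPart 2 (infl K ψ : G → ℂ) g =
        (Nat.card K : ℂ) * ∑ q, pRegularPart 2 (ψ : G ⧸ K → ℂ) q := by
      rw [← Finset.sum_fiberwise Finset.univ (fun g : G => (g : G ⧸ K)), Finset.mul_sum]
      refine Finset.sum_congr rfl fun q _ => ?_
      rw [Finset.sum_congr rfl (g := fun _ => pRegularPart 2 (ψ : G ⧸ K → ℂ) q) fun g hg => by
        have hq : (g : G ⧸ K) = q := (Finset.mem_filter.1 hg).2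
        subst hq
        by_cases h : IsPRegular 2 g
        · rw [pRegularPart_of_reg h, pRegularPart_of_reg ((isPRegular_mk_iff K hK g).2 h), infl_coe,
            Function.comp_apply]
        · rw [pRegularPart_of_sing h,
            pRegularPart_of_sing (fun h' => h ((isPRegular_mk_iff K hK g).1 h'))],
        Finset.sum_const, nsmul_eq_mul]
      congr 2
      induction q using QuotientGroup.induction_on with
      | H c =>
        rw [← Fintype.card_subtype, ← Nat.card_eq_fintype_card]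
        refine Nat.card_congr (Equiv.symm
          { toFun := fun n => ⟨c * n, by simp⟩
            invFun := fun g => ⟨c⁻¹ * g.1, by
              have := g.2
              rw [eq_comm, QuotientGroup.eq] at this
              exact this⟩
            left_inv := fun n => Subtype.ext (inv_mul_cancel_left _ _)
            right_inv := fun g => Subtype.ext (mul_inv_cancel_left _ _) })
    rw [e]
    refine ⟨fun h h0 => h (by rw [h0, mul_zero]), fun h => mul_ne_zero ?_ h⟩
    exact_mod_cast Nat.card_pos.ne'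
  constructor
  · intro h χ hχ hχ1
    have htriv := trivial_of_sameBlock K hM hK
      (sameBlock_of_mem hM isPBlock_principal (trivChar_mem_principal hM) hχ)
      (fun n _ => by rw [trivChar_coe])
    obtain ⟨ψ, rfl⟩ : ∃ ψ, infl K ψ = χ := ⟨(Char.irrQuotientEquiv K).symm ⟨χ, htriv⟩,
      congrArg Subtype.val ((Char.irrQuotientEquiv K).apply_symm_apply ⟨χ, htriv⟩)⟩
    have h1 := h ψ ((hiff ψ).1 hχ) fun he => hχ1 (by rw [infl_coe, he]; rfl)
    simpa [infl_coe, QuotientGroup.mk_one] using h1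
  · intro h ψ hψ hψ1
    have h1 := h (infl K ψ) ((hiff ψ).2 hψ) fun he => hψ1 (funext fun q => by
      obtain ⟨g, rfl⟩ := QuotientGroup.mk_surjective q
      have := congrFun he g
      rwa [infl_coe] at this)
    simpa [infl_coe, QuotientGroup.mk_one] using h1

end Cfsg.Lib.Block.ConstDiff
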