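import Cfsg.Agent.Lib.Block.ConstDiff.Klein
import Cfsg.Agent.Lib.Block.CyclicPrimeApps
import Cfsg.Agent.Lib.Dickson.Maximal.Basic
import Cfsg.Agent.Lib.Linear.PSLSmall
import Cfsg.Agent.Lib.Small.BlockShape
import Cfsg.Agent.Lib.SimpleAbTwo.Cases
import Cfsg.Agent.S4544
import Cfsg.Agent.S4708

/-!
# A centralizer `2 × PSL₂(q)` contradicts a constant difference

The principal block of such a centralizer has too large a sum of squared degrees.
-/

set_option autoImplicit false
set_option linter.unusedSectionVars false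
set_option linter.style.haveILetI false

namespace Cfsg.Lib.Block.ConstDiff

open Cfsg Cfsg.Lib Cfsg.Lib.Block Subgroup
open scoped ComplexConjugate Classical

universe u

variable {M : Ideal AlgInt} (hM : IsPModular 2 M)

noncomputable local instance (priority := high) fintypeSubgroupConstRee {A : Type u}
    [Group A] [Fintype A] (H : Subgroup A) : Fintype H := Fintype.ofFinite H

section PSL

variable {F : Type} [Field F] [Fintype F]

/-- The order of `PSL₂(q)` is four times an odd number for these `q`. -/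
theorem card_psl_klein (hF : Fintype.card F = 4 ∨
    ((Fintype.card F % 8 = 3 ∨ Fintype.card F % 8 = 5) ∧ 5 ≤ Fintype.card F)) :
    ∃ g₀ : ℕ, Odd g₀ ∧ 1 < g₀ ∧
      Nat.card (Matrix.ProjectiveSpecialLinearGroup (Fin 2) F) = 4 * g₀ := by
  have hc := Cfsg.Lib.Linear.Two.card_PSL_two (F := F)
  set q := Fintype.card F
  rcases hF with h4 | ⟨h8, h5⟩
  · rw [h4] at hc
    norm_num at hc
    exact ⟨15, by decide, by norm_num, by simpa [Nat.card_eq_fintype_card] using hc⟩
  · rw [show Nat.gcd 2 (q - 1) = 2 from Nat.gcd_eq_left (Nat.dvd_of_mod_eq_zero (by omega))] at hc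
    obtain ⟨k, hk⟩ : ∃ k, q = 8 * k + 3 ∨ q = 8 * k + 5 := ⟨q / 8, by omega⟩
    rcases hk with hk | hk
    · refine ⟨q * (8 * k * k + 6 * k + 1), ?_, ?_, ?_⟩
      · exact (Nat.odd_iff.2 (by omega)).mul ⟨4 * k * k + 3 * k, by ring⟩
      · exact lt_of_lt_of_le (show 1 < q by omega) (Nat.le_mul_of_pos_right _ (by positivity))
      · rw [show q ^ 2 - 1 = 8 * (8 * k * k + 6 * k + 1) by
          rw [hk, Nat.sub_eq_iff_eq_add (Nat.one_le_pow _ _ (by omega))]; ring] at hc
        linarith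
    · refine ⟨q * (8 * k * k + 10 * k + 3), ?_, ?_, ?_⟩
      · exact (Nat.odd_iff.2 (by omega)).mul ⟨4 * k * k + 5 * k + 1, by ring⟩
      · exact lt_of_lt_of_le (show 1 < q by omega) (Nat.le_mul_of_pos_right _ (by positivity))
      · rw [show q ^ 2 - 1 = 8 * (8 * k * k + 10 * k + 3) by
          rw [hk, Nat.sub_eq_iff_eq_add (Nat.one_le_pow _ _ (by omega))]; ring] at hc
        linarith

theorem klein_psl [Fintype (Matrix.ProjectiveSpecialLinearGroup (Fin 2) F)]
    (hF : Fintype.card F = 4 ∨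
      ((Fintype.card F % 8 = 3 ∨ Fintype.card F % 8 = 5) ∧ 5 ≤ Fintype.card F))
    (P : Sylow 2 (Matrix.ProjectiveSpecialLinearGroup (Fin 2) F)) : KleinCond P := by
  obtain ⟨g₀, hg, hg1, hG⟩ := card_psl_klein hF
  haveI := Cfsg.Lib.Dickson.isSimpleGroup_psl_two (F := F)
    (by rcases hF with h | ⟨-, h⟩ <;> omega)
  refine kleinCond_of_no_complement hg hG ?_
  rintro ⟨N, hN, hcard⟩
  rcases hN.eq_bot_or_eq_top with rfl | rfl
  · rw [Subgroup.card_bot] at hcard; omega
  · rw [Subgroup.card_top, hG] at hcard; omega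

include hM in
theorem degSq_psl [Fintype (Matrix.ProjectiveSpecialLinearGroup (Fin 2) F)]
    (hF : Fintype.card F = 4 ∨
      ((Fintype.card F % 8 = 3 ∨ Fintype.card F % 8 = 5) ∧ 5 ≤ Fintype.card F)) :
    44 ≤ ∑ᶠ χ ∈ principalBlock M (Matrix.ProjectiveSpecialLinearGroup (Fin 2) F),
      charDegree (χ : Matrix.ProjectiveSpecialLinearGroup (Fin 2) F → ℂ) ^ 2 := by
  haveI : Fact (Nat.Prime 2) := ⟨Nat.prime_two⟩
  obtain ⟨g₀, hg, hg1, hG⟩ := card_psl_klein hF
  haveI := Cfsg.Lib.Dickson.isSimpleGroup_psl_two (F := F)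
    (by rcases hF with h | ⟨-, h⟩ <;> omega)
  obtain ⟨z, hz⟩ := exists_prime_orderOf_dvd_card'
    (G := Matrix.ProjectiveSpecialLinearGroup (Fin 2) F) 2 ⟨2 * g₀, by rw [hG]; ring⟩
  have hnc : ¬ IsCyclic (Matrix.ProjectiveSpecialLinearGroup (Fin 2) F) := fun h => by
    letI := IsCyclic.commGroup (α := Matrix.ProjectiveSpecialLinearGroup (Fin 2) F)
    have := IsSimpleGroup.prime_card (α := Matrix.ProjectiveSpecialLinearGroup (Fin 2) F)
    rw [hG] at this
    exact Nat.not_prime_mul (by norm_num) (by omega) this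
  refine klein_degSq hM (klein_psl hF default) hz fun χ hχ => ?_
  have := Small.two_le_charDegree hnc (χ := χ) (fun e => (mem_rest.1 hχ).2 (by rw [e]; rfl))
  rw [deg]; exact_mod_cast this

end PSL

variable {G : Type u} [Group G] [Fintype G]

theorem two_cases (a : Multiplicative (ZMod 2)) : a = 1 ∨ a = Multiplicative.ofAdd 1 := by
  revert a; decide

theorem two_ne : Multiplicative.ofAdd (1 : ZMod 2) ≠ 1 := by decide +revert

theorem two_mul_self : Multiplicative.ofAdd (1 : ZMod 2) * Multiplicative.ofAdd 1 = 1 := by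
  decide +revert

theorem two_sq (a : Multiplicative (ZMod 2)) : a ^ 2 = 1 := by
  revert a; decide

include hM in
/-- A direct factor of order two doubles the sum of the squared degrees. -/
theorem degSq_two_times {C : Type u} [Group C] [Fintype C] {X : Type} [Group X] [Fintype X]
    (e : C ≃* Multiplicative (ZMod 2) × X) :
    2 * ∑ᶠ ξ ∈ principalBlock M X, charDegree (ξ : X → ℂ) ^ 2 ≤
      ∑ᶠ χ ∈ principalBlock M C, charDegree (χ : C → ℂ) ^ 2 := by
  haveI : Fact (Nat.Prime 2) := ⟨Nat.prime_two⟩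
  obtain ⟨π, hπ⟩ : ∃ π : C →* X, π = (MonoidHom.snd _ _).comp e.toMonoidHom := ⟨_, rfl⟩
  have hπs : Function.Surjective π := fun x => ⟨e.symm (1, x), by rw [hπ]; simp⟩
  obtain ⟨s, hs1⟩ : ∃ s : Multiplicative (ZMod 2) →* ℂˣ, s (Multiplicative.ofAdd 1) = -1 :=
    ⟨{ toFun := fun a => if a = 1 then 1 else -1
       map_one' := if_pos rfl
       map_mul' := fun a b => by
         have hne := two_ne
         have hmul := two_mul_self
         rcases two_cases a with rfl | rfl <;> rcases two_cases b with rfl | rfl <;>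
           simp [hne, hmul] },
      by simp [two_ne]⟩
  obtain ⟨σ, hσ⟩ : ∃ σ : C →* ℂˣ, σ = s.comp ((MonoidHom.fst _ _).comp e.toMonoidHom) := ⟨_, rfl⟩
  have hσreg : ∀ g : C, IsPRegular 2 g → σ g = 1 := by
    intro g hg
    have h1 : orderOf (σ g) ∣ orderOf g := orderOf_map_dvd σ g
    have h2 : σ g ^ 2 = 1 := by
      rw [hσ]
      simp only [MonoidHom.comp_apply]
      rw [← map_pow, two_sq, map_one]
    rcases (Nat.dvd_prime Nat.prime_two).1 (orderOf_dvd_of_pow_eq_one h2) with h | h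
    · exact orderOf_eq_one_iff.1 h
    · exact absurd (h ▸ h1) hg
  obtain ⟨j, hj⟩ : ∃ j : IrrCharacter X → IrrCharacter C, ∀ ξ g, (j ξ : C → ℂ) g = (ξ : X → ℂ) (π g) :=
    ⟨fun ξ => ⟨_, ξ.2.comp_surjective π hπs⟩, fun _ _ => rfl⟩
  obtain ⟨j', hj'⟩ : ∃ j' : IrrCharacter X → IrrCharacter C,
      ∀ ξ g, (j' ξ : C → ℂ) g = (ξ : X → ℂ) (π g) * (σ g : ℂ) :=
    ⟨fun ξ => ⟨_, Char.isIrrCharacter_mul_linear (ξ.2.comp_surjective π hπs) σ⟩, fun _ _ => rfl⟩
  have hmem : ∀ ξ ∈ principalBlock M X, j ξ ∈ principalBlock M C ∧ j' ξ ∈ principalBlock M C := by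
    intro ξ hξ
    rw [mem_principal_iff_regSum hM] at hξ
    have hsum : ∑ g : C, pRegularPart 2 (j ξ : C → ℂ) g ≠ 0 := by
      have e1 : ∑ g : C, pRegularPart 2 (j ξ : C → ℂ) g =
          ∑ g : C, if IsPRegular 2 g then (ξ : X → ℂ) (π g) else 0 :=
        Finset.sum_congr rfl fun g _ => by
          split_ifs with hg
          · rw [pRegularPart_of_reg hg, hj]
          · rw [pRegularPart_of_sing hg]
      rw [e1]
      intro h0
      refine hξ (Eq.trans ?_ h0)
      symm
      rw [← Equiv.sum_comp e.symm.toEquiv, Fintype.sum_prod_type,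
        Finset.sum_eq_single (1 : Multiplicative (ZMod 2))]
      · refine Finset.sum_congr rfl fun x _ => ?_
        have ho : orderOf (e.symm ((1 : Multiplicative (ZMod 2)), x)) = orderOf x := by
          rw [MulEquiv.orderOf_eq, Prod.orderOf_mk, orderOf_one, Nat.lcm_one_left]
        have hx : IsPRegular 2 (e.symm ((1 : Multiplicative (ZMod 2)), x)) ↔ IsPRegular 2 x := by
          rw [IsPRegular, IsPRegular, ho]
        have hp : π (e.symm ((1 : Multiplicative (ZMod 2)), x)) = x := by rw [hπ]; simp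
        show (if IsPRegular 2 (e.symm ((1 : Multiplicative (ZMod 2)), x)) then _ else 0) = _
        by_cases h : IsPRegular 2 x
        · rw [if_pos (hx.2 h), pRegularPart_of_reg h]
          exact congrArg (ξ : X → ℂ) hp
        · rw [if_neg fun h' => h (hx.1 h'), pRegularPart_of_sing h]
      · intro a _ ha
        refine Finset.sum_eq_zero fun x _ => if_neg fun h => h ?_
        show 2 ∣ orderOf (e.symm (a, x))
        rw [MulEquiv.orderOf_eq, Prod.orderOf_mk]
        refine dvd_trans ?_ (Nat.dvd_lcm_left _ _)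
        rw [orderOf_eq_prime (p := 2) (two_sq a) ha]
      · exact fun h => absurd (Finset.mem_univ _) h
    refine ⟨(mem_principal_iff_regSum hM _).2 hsum,
      (mem_principal_iff_regSum hM _).2 fun h0 => hsum (Eq.trans ?_ h0)⟩
    refine Finset.sum_congr rfl fun g _ => ?_
    by_cases hg : IsPRegular 2 g
    · rw [pRegularPart_of_reg hg, pRegularPart_of_reg hg, hj, hj', hσreg g hg, Units.val_one, mul_one]
    · rw [pRegularPart_of_sing hg, pRegularPart_of_sing hg]
  have hinj : Function.Injective j := fun a b h => Subtype.ext (funext fun x => by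
    obtain ⟨g, rfl⟩ := hπs x
    rw [← hj a g, ← hj b g, h])
  have hinj' : Function.Injective j' := fun a b h => Subtype.ext (funext fun x => by
    obtain ⟨g, rfl⟩ := hπs x
    have := congrFun (congrArg Subtype.val h) g
    rw [hj', hj'] at this
    exact mul_right_cancel₀ (Units.ne_zero _) this)
  have hdis : ∀ a b, j a ≠ j' b := by
    intro a b h
    have h1 := congrFun (congrArg Subtype.val h) (e.symm (Multiplicative.ofAdd 1, 1))
    have h2 := congrFun (congrArg Subtype.val h) 1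
    rw [hj, hj'] at h1 h2
    rw [show π (e.symm (Multiplicative.ofAdd 1, 1)) = 1 by rw [hπ]; simp,
      show σ (e.symm (Multiplicative.ofAdd 1, 1)) = -1 by rw [hσ]; simp [hs1]] at h1
    simp only [map_one, Units.val_one, mul_one, Units.val_neg] at h1 h2
    have hb := b.2.apply_one_ne_zero
    rw [h2] at h1
    apply hb
    linear_combination h1 / 2
  have hdeg : ∀ ξ, charDegree (j ξ : C → ℂ) = charDegree (ξ : X → ℂ) ∧
      charDegree (j' ξ : C → ℂ) = charDegree (ξ : X → ℂ) := fun ξ => by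
    constructor <;> refine charDegree_eq_of_apply_one ?_
    · rw [hj, map_one, apply_one_eq_charDegree]
    · rw [hj', map_one, map_one, Units.val_one, mul_one, apply_one_eq_charDegree]
  rw [finsum_mem_eq_toFinset_sum, finsum_mem_eq_toFinset_sum, two_mul]
  refine le_trans (le_of_eq ?_) (Finset.sum_le_sum_of_subset (s :=
    (principalBlock M X).toFinset.image j ∪ (principalBlock M X).toFinset.image j') ?_)
  · rw [Finset.sum_union, Finset.sum_image fun a _ b _ h => hinj h,
      Finset.sum_image fun a _ b _ h => hinj' h]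
    · simp only [(hdeg _).1, (hdeg _).2]
    · rw [Finset.disjoint_left]
      intro x hx hx'
      obtain ⟨a, -, rfl⟩ := Finset.mem_image.1 hx
      obtain ⟨b, -, hb⟩ := Finset.mem_image.1 hx'
      exact hdis a b hb.symm
  · intro x hx
    rcases Finset.mem_union.1 hx with h | h <;> obtain ⟨a, ha, rfl⟩ := Finset.mem_image.1 h
    · exact Set.mem_toFinset.2 (hmem a (Set.mem_toFinset.1 ha)).1
    · exact Set.mem_toFinset.2 (hmem a (Set.mem_toFinset.1 ha)).2

include hM in
/-- No centralizer `2 × PSL₂(q)`. -/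
theorem not_twoTimes {L : Subgroup G} [L.Normal] (P : Sylow 2 G) (hPL : (P : Subgroup G) ≤ L)
    {u : G} (h : Const M u (Nat.card (P : Subgroup G) : ℂ)) [Fact (Nat.Prime 2)]
    (hu : pPt 2 u ≠ 1)
    (hfuse : ∀ y : G, (∃ j : ℕ, orderOf y = 2 ^ j) → y ≠ 1 → IsConj (pPt 2 u) y)
    (hsq : ∀ v ∈ (P : Subgroup G), v * v = 1) :
    ¬ SimpleAbTwo.IsTwoTimesPSL L := by
  rintro ⟨t₁, F, iF, iF', ht₁, h3, -, ⟨e⟩, hcase⟩
  haveI := Fintype.ofFinite (Matrix.ProjectiveSpecialLinearGroup (Fin 2) F)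
  have hF : Fintype.card F = 4 ∨
      ((Fintype.card F % 8 = 3 ∨ Fintype.card F % 8 = 5) ∧ 5 ≤ Fintype.card F) := by
    rcases hcase with ⟨m, hm, hcard, -⟩ | ⟨h | h, -⟩
    · right
      rw [hcard, pow_succ, pow_mul]
      have h9 : ∀ n, (3 ^ 2) ^ n % 8 = 1 := fun n => by rw [Nat.pow_mod]; norm_num
      refine ⟨Or.inl (by rw [Nat.mul_mod, h9]), ?_⟩
      have : (3 ^ 2) ^ 1 ≤ (3 ^ 2) ^ m := Nat.pow_le_pow_right (by norm_num) hm
      omega
    · exact Or.inl h
    · exact Or.inr ⟨by omega, by omega⟩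
  obtain ⟨t, ht⟩ : ∃ t : G, t = (t₁ : G) := ⟨_, rfl⟩
  have ht2 : orderOf t = 2 := by rw [ht, Subgroup.orderOf_coe, ht₁]
  have htt : ∃ j : ℕ, orderOf t = 2 ^ j := ⟨1, by rw [ht2, pow_one]⟩
  have ht1 : t ≠ 1 := fun h => by rw [h, orderOf_one] at ht2; omega
  have hone : ∀ v ∈ (P : Subgroup G), v ≠ 1 → IsConj t v := fun v hv hv1 =>
    (hfuse t htt ht1).symm.trans (hfuse v ⟨1, by
      rw [pow_one]; exact orderOf_eq_prime (by rw [pow_two]; exact hsq v hv) hv1⟩ hv1)
  -- the order of the Sylow subgroup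
  obtain ⟨g₀, hg, -, hX⟩ := card_psl_klein hF
  obtain ⟨i, hi⟩ := IsPGroup.iff_card.1 P.2
  have hC : Nat.card (centralizer ({t₁} : Set L)) = 8 * g₀ := by
    rw [Nat.card_congr e.toEquiv, Nat.card_prod, hX]
    simp only [Nat.card_eq_fintype_card, Fintype.card_multiplicative, ZMod.card]
    ring
  obtain ⟨Q, hQ⟩ : ∃ Q : Sylow 2 L, (Q : Subgroup L) ≤ centralizer ({t₁} : Set L) := by
    obtain ⟨c, hc⟩ := Invol.exists_conj_mem_sylow (P.subtype hPL)
      (IsPGroup.of_card (n := 1) (by rw [Nat.card_zpowers, ht₁, pow_one]) : IsPGroup 2 (zpowers t₁))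
    refine ⟨c⁻¹ • P.subtype hPL, fun v hv => mem_centralizer_singleton_iff.2 ?_⟩
    obtain ⟨w, hw, rfl⟩ := hv
    have hct := hc t₁ (mem_zpowers t₁)
    have hcomm : w * (c * t₁ * c⁻¹) = c * t₁ * c⁻¹ * w := by
      have hsqL : ∀ x ∈ ((P.subtype hPL : Sylow 2 L) : Subgroup L), x⁻¹ = x := fun x hx =>
        inv_eq_of_mul_eq_one_right (Subtype.ext (hsq x (mem_subgroupOf.1 hx)))
      calc w * (c * t₁ * c⁻¹) = (w * (c * t₁ * c⁻¹))⁻¹ := (hsqL _ (mul_mem hw hct)).symm
        _ = (c * t₁ * c⁻¹)⁻¹ * w⁻¹ := mul_inv_rev _ _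
        _ = c * t₁ * c⁻¹ * w := by rw [hsqL _ hct, hsqL _ hw]
    show c⁻¹ * w * c⁻¹⁻¹ * t₁ = t₁ * (c⁻¹ * w * c⁻¹⁻¹)
    calc c⁻¹ * w * c⁻¹⁻¹ * t₁ = c⁻¹ * (w * (c * t₁ * c⁻¹)) * c := by group
      _ = t₁ * (c⁻¹ * w * c⁻¹⁻¹) := by rw [hcomm]; group
  have hP8 : Nat.card (P : Subgroup G) = 8 := by
    have hQc : Nat.card (Q : Subgroup L) = 2 ^ i := by
      rw [Q.card_eq_multiplicity, ← (P.subtype hPL).card_eq_multiplicity, Sylow.coe_subtype,
        Nat.card_congr (subgroupOfEquivOfLe hPL).toEquiv, hi]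
    have h1 : 2 ^ i ∣ 8 * g₀ := hC ▸ hQc ▸ Subgroup.card_dvd_of_le hQ
    have h2 : 2 ^ 3 ∣ Nat.card (Q : Subgroup L) := by
      rw [Q.card_eq_multiplicity]
      refine pow_dvd_pow 2 ((Nat.prime_two.pow_dvd_iff_le_factorization Nat.card_pos.ne').1 ?_)
      exact (hC ▸ (show 2 ^ 3 ∣ 8 * g₀ by norm_num)).trans (card_subgroup_dvd_card _)
    rw [hQc, Nat.pow_dvd_pow_iff_le_right (by norm_num)] at h2
    have h3 : 2 ^ i ∣ 2 ^ 3 := (Nat.Coprime.pow_left i (Nat.coprime_two_left.2 hg)).dvd_of_dvd_mul_right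
      (by norm_num; exact h1)
    rw [Nat.pow_dvd_pow_iff_le_right (by norm_num)] at h3
    rw [hi, show i = 3 by omega]
    norm_num
  -- eight characters
  have hk : Nat.card (principalBlock M G) ≤ 8 := by
    obtain ⟨c, hc⟩ := Invol.exists_conj_mem_sylow P
      (IsPGroup.of_card (n := 1) (by rw [Nat.card_zpowers, ht2, pow_one]) : IsPGroup 2 (zpowers t))
    have hmem := hc t (mem_zpowers t)
    have hord : orderOf (c * t * c⁻¹) = 2 := by rw [← MulAut.conj_apply, MulEquiv.orderOf_eq, ht2]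
    have := Cfsg.Agent.S4544.result M hM (principalBlock M G) isPBlock_principal (P : Subgroup G)
      (isDefectGroup_principal_sylow hM P) (zpowers (c * t * c⁻¹)) (zpowers_le.2 hmem)
      (Subgroup.isCyclic_zpowers _) (by
        have h1 := ((zpowers (c * t * c⁻¹)).subgroupOf (P : Subgroup G)).card_mul_index
        rw [Nat.card_congr (subgroupOfEquivOfLe (zpowers_le.2 hmem)).toEquiv, Nat.card_zpowers, hord,
          hP8] at h1
        show ((zpowers (c * t * c⁻¹)).subgroupOf (P : Subgroup G)).index ≤ 4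
        omega)
    rwa [hP8] at this
  have hn : ((rest M G).card : ℤ) ≤ 7 := by
    rw [rest, Finset.card_erase_of_mem (Set.mem_toFinset.2 (trivChar_mem_principal hM)),
      Set.toFinset_card, ← Nat.card_eq_fintype_card]
    omega
  have hS := sum_deg_sq_le hM (q := Nat.card (P : Subgroup G)) Nat.card_pos h hu
  rw [hP8] at hS
  have hb := degSq_le hM (P := (P : Subgroup G)) ht2 hone (by omega)
  rw [hP8] at hb
  push_cast at hS hb
  -- the centralizer in `G`
  set H := centralizer ({t} : Set G) with hH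
  haveI : (L.subgroupOf H).Normal := normal_subgroupOf
  have hlow : 88 ≤ ∑ᶠ χ ∈ principalBlock M H, charDegree (χ : H → ℂ) ^ 2 := by
    let j : L.subgroupOf H →* centralizer ({t₁} : Set L) :=
      { toFun := fun x => ⟨⟨((x : H) : G), mem_subgroupOf.1 x.2⟩, mem_centralizer_singleton_iff.2
          (Subtype.ext (by
            have := mem_centralizer_singleton_iff.1 (x : H).2
            rw [ht] at this
            exact this))⟩
        map_one' := rfl
        map_mul' := fun _ _ => rfl }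
    have hjb : Function.Bijective j := by
      refine ⟨fun a b h => Subtype.ext (Subtype.ext
        (congrArg (fun z : centralizer ({t₁} : Set L) => (((z : L) : G))) h)), fun z => ?_⟩
      refine ⟨⟨⟨((z : L) : G), mem_centralizer_singleton_iff.2 ?_⟩,
        mem_subgroupOf.2 (z : L).2⟩, rfl⟩
      rw [ht]
      exact congrArg Subtype.val (mem_centralizer_singleton_iff.1 z.2)
    have h1 := degSq_two_times hM (C := ↥(L.subgroupOf H)) ((MulEquiv.ofBijective j hjb).trans e)
    have h2 := degSq_psl hM hF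
    have h3 := (Cfsg.Agent.S4708.result 2 M hM (L.subgroupOf H)).1
    omega
  have hlow' : (88 : ℤ) ≤ ((∑ᶠ χ ∈ principalBlock M H, charDegree (χ : H → ℂ) ^ 2 : ℕ) : ℤ) := by
    exact_mod_cast hlow
  nlinarith

end Cfsg.Lib.Block.ConstDiff
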